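import Cfsg.Agent.Lib.Classical.OrthDecompMax.Escape

set_option autoImplicit false
set_option linter.unusedSectionVars false

/-!
A vector outside the members related to one inside spreads to the whole square class, so stabilisers
of orthogonal decompositions are maximal in `Ω`.
-/

namespace CfsgLib.Orth.DecompMax

open Matrix
open scoped commutatorElement

variable {F : Type*} [Field F] [Finite F] {ι : Type} [Fintype ι] [DecidableEq ι]
variable {Q : QuadraticForm F (ι → F)}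

local notation "B" => QuadraticMap.polar (DFunLike.coe Q)

variable {t k : ℕ} {D : Fin t → Submodule F (ι → F)} {M : Subgroup (Grp Q)} {d : F}

/-- A normal subgroup of `Ω` that is not central is all of `Ω`. -/
theorem omega_le_of_normal (hB : Nondeg Q) (hn : 5 ≤ Module.finrank F (ι → F)) (N : Subgroup (Grp Q))
    (hconj : ∀ g ∈ Cfsg.Omega F ⇑Q, ∀ x ∈ N, g * x * g⁻¹ ∈ N) {a b : Grp Q} (ha : a ∈ N)
    (haO : a ∈ Cfsg.Omega F ⇑Q) (hb : b ∈ Cfsg.Omega F ⇑Q) (hab : a * b ≠ b * a) :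
    Cfsg.Omega F ⇑Q ≤ N := by
  haveI : IsSimpleGroup (↥(Cfsg.Omega F ⇑Q) ⧸ Subgroup.center ↥(Cfsg.Omega F ⇑Q)) :=
    pOmega_simple hB hn
  set N' := N.subgroupOf (Cfsg.Omega F ⇑Q) with hN'
  haveI : N'.Normal := ⟨fun x hx g => hconj g g.2 x hx⟩
  have hN'' : (N'.map (QuotientGroup.mk' (Subgroup.center ↥(Cfsg.Omega F ⇑Q)))).Normal :=
    Subgroup.Normal.map inferInstance _ (QuotientGroup.mk'_surjective _)
  rcases hN''.eq_bot_or_eq_top with h | h
  · exfalso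
    rw [Subgroup.map_eq_bot_iff, QuotientGroup.ker_mk'] at h
    have hz := h (show (⟨a, haO⟩ : ↥(Cfsg.Omega F ⇑Q)) ∈ N' from ha)
    exact hab (congrArg Subtype.val (Subgroup.mem_center_iff.1 hz ⟨b, hb⟩)).symm
  · intro g hg
    have hcomm : ∀ x y : ↥(Cfsg.Omega F ⇑Q), ⁅x, y⁆ ∈ N' := by
      intro x y
      obtain ⟨n, hn', en⟩ : QuotientGroup.mk' (Subgroup.center ↥(Cfsg.Omega F ⇑Q)) x ∈
          N'.map (QuotientGroup.mk' _) := by rw [h]; trivial
      obtain ⟨z, hz, rfl⟩ : ∃ z ∈ Subgroup.center ↥(Cfsg.Omega F ⇑Q), x = n * z :=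
        ⟨n⁻¹ * x, QuotientGroup.eq.1 en, (mul_inv_cancel_left n x).symm⟩
      have e : ⁅n * z, y⁆ = n * (y * n⁻¹ * y⁻¹) := by
        have hzy := Subgroup.mem_center_iff.1 hz
        rw [commutatorElement_def, _root_.mul_inv_rev, mul_assoc n z y, ← hzy y]
        group
      rw [e]
      exact mul_mem hn' (Subgroup.Normal.conj_mem inferInstance _ (inv_mem hn') y)
    rw [← omega_perfect hB hn] at hg
    have hle : ⁅Cfsg.Omega F ⇑Q, Cfsg.Omega F ⇑Q⁆ ≤ N :=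
      Subgroup.commutator_le.2 fun p hp q hq => hcomm ⟨p, hp⟩ ⟨q, hq⟩
    exact hle hg

namespace Dec

variable (hd : Dec Q k D)
include hd

variable (hL : Large F k) (hM : ∀ g, g ∈ Cfsg.Omega F ⇑Q → Perm D g → g ∈ M) (hd0 : d ≠ 0)

section
include hM

theorem mix_blk {x : ι → F} (hx : Blk D x) (hc : Cls Q d x) : Mix M D d x :=
  ⟨hc, x, hx, hc, hd.rel_blk hM hx hx hc.1 hc.1 ⟨Q x, rfl⟩⟩

include hd0

theorem mix_rel {x y : ι → F} (hx : Mix M D d x) (hy : Mix M D d y) : Rel M x y := by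
  obtain ⟨hxc, b, hb, hbc, hxb⟩ := hx
  obtain ⟨hyc, b', hb', hbc', hyb⟩ := hy
  exact rel_trans hd.nd hxb (rel_trans hd.nd
    (hd.rel_blk hM hb hb' hbc.1 hbc'.1 (cls_pair hd0 hbc hbc')) (rel_symm hyb))

theorem mix_refl {x y : ι → F} (hx : Mix M D d x) (hy : Mix M D d y) {r : Grp Q} (hr : IsRefl x r) :
    Mix M D d (ap r y) := by
  refine ⟨cls_ap hy.1 r, ?_⟩
  obtain ⟨b, hb, hbc, hxb⟩ := hx.2
  exact ⟨b, hb, hbc, rel_trans hd.nd (rel_symm (rel_refl hd.nd (hd.mix_rel hM hd0 hx hy) hr)) hxb⟩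

theorem mix_sub {x y : ι → F} (hx : Mix M D d x) (hy : Mix M D d y) (h : B x y = Q x) :
    Mix M D d (y - x) := by
  obtain ⟨r, hr⟩ := exists_refl hd.nd hx.1.1
  have := hd.mix_refl hM hd0 hx hy hr
  rwa [hr.2, h, inv_mul_cancel₀ hx.1.1, one_smul] at this

theorem mix_add {x y : ι → F} (hx : Mix M D d x) (hy : Mix M D d y) (h : B x y = -Q x) :
    Mix M D d (x + y) := by
  obtain ⟨r, hr⟩ := exists_refl hd.nd hx.1.1
  have := hd.mix_refl hM hd0 hx hy hr
  rwa [hr.2, h, mul_neg, inv_mul_cancel₀ hx.1.1, neg_one_smul, sub_neg_eq_add, add_comm] at this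

end

theorem mix_smul {x : ι → F} (hx : Mix M D d x) {c : F} (hc : c ≠ 0) : Mix M D d (c • x) := by
  obtain ⟨hxc, b, hb, hbc, hxb⟩ := hx
  refine ⟨cls_smul hxc hc, b, hb, hbc, (cls_smul hxc hc).1, hbc.1, fun r s hr hs => hxb.2.2 r s ?_ hs⟩
  have := refl_smul hr (inv_ne_zero hc)
  rwa [smul_smul, inv_mul_cancel₀ hc, one_smul] at this

theorem mix_perm {x : ι → F} (hx : Mix M D d x) {g : Grp Q} (hg : g ∈ M) (hgP : Perm D g) :
    Mix M D d (ap g x) := by
  obtain ⟨hxc, b, hb, hbc, hxb⟩ := hx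
  exact ⟨cls_ap hxc g, ap g b, hd.perm_blk hgP hb, cls_ap hbc g, rel_conj hg hxb⟩

theorem sub_mem_orth (i : Fin t) (x : ι → F) :
    x - proj Q (D i) x ∈ Orth.orth Q (D i) := fun w hw => by
  show B w (x - proj Q (D i) x) = 0
  rw [b_sub_right, b_comm w (proj Q (D i) x), hd.b_comp i x hw, b_comm w x, sub_self]

theorem comp_pair {i j : Fin t} (h : i ≠ j) {x y : ι → F} (hx : x ∈ D i) (hy : y ∈ D j) :
    proj Q (D i) (x + y) = x ∧ proj Q (D j) (x + y) = y := by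
  constructor
  · rw [map_add, hd.comp_self hx, hd.comp_other h.symm hy, add_zero]
  · rw [map_add, hd.comp_self hy, hd.comp_other h hx, zero_add]

theorem exists_shift (h5 : 5 ≤ k) {i : Fin t} {a : ι → F} (ha : a ∈ D i) :
    ∃ s ∈ D i, s ≠ 0 ∧ Q s = 0 ∧ B a s = 0 ∧ s ≠ -a := by
  by_cases ha0 : a = 0
  · obtain ⟨s, hs, hs0, hQs⟩ := exists_singular (Q := Q) (U := D i) (by rw [hd.rank]; omega)
    exact ⟨s, hs, hs0, hQs, by rw [ha0, b_zero_left], by rw [ha0, neg_zero]; exact hs0⟩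
  obtain ⟨f, hf, haf⟩ := exists_partner_val (hd.nondeg i) ha ha0 1
  have h1 := finrank_relOrth hd.nd (D i) (Submodule.span F ({a, f} : Set (ι → F)))
  have h2 : Module.finrank F (Submodule.span F ({a, f} : Set (ι → F))) ≤ 2 := by
    classical
    have h := finrank_span_finset_le_card (R := F) ({a, f} : Finset (ι → F))
    rw [Set.finrank, Finset.coe_pair] at h
    exact h.trans Finset.card_le_two
  obtain ⟨s, hs, hs0, hQs⟩ := exists_singular (Q := Q)
    (U := relOrth Q (D i) (Submodule.span F ({a, f} : Set (ι → F)))) (by rw [hd.rank] at h1; omega)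
  refine ⟨s, hs.1, hs0, hQs, hs.2 a (Submodule.subset_span (Set.mem_insert _ _)), fun e => ?_⟩
  have h0 : B f s = 0 := hs.2 f (Submodule.subset_span (Set.mem_insert_of_mem _ rfl))
  rw [e, ← neg_one_smul F a, b_smul_right, b_comm f a, haf, mul_one] at h0
  exact neg_ne_zero.2 one_ne_zero h0

/-- The transitivity hypothesis for one vector. -/
theorem exists_partner_diff {i : Fin t} {a : ι → F} (ha : a ∈ D i) (ha0 : a ≠ 0) (h3 : 3 ≤ k) (P : F)
    (h : ((2 : F) ≠ 0 ∧ Q a ≠ 0 ∧ P ≠ 0) ∨ (4 ≤ k ∧ (P ≠ 0 ∨ 5 ≤ k ∨ Q a ≠ 0))) :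
    ∃ a' ∈ D i, a' ≠ 0 ∧ a' ≠ a ∧ Q a' = Q a ∧ B a a' = 2 * Q a - P := by
  by_cases hP : P = 0
  · obtain ⟨s, hs, hs0, hQs, has, hsa⟩ :
        ∃ s ∈ D i, s ≠ 0 ∧ Q s = 0 ∧ B a s = 0 ∧ s ≠ -a := by
      rcases h with h | h
      · exact absurd hP h.2.2
      rcases h.2.resolve_left (fun e => e hP) with h5 | hQa
      · exact hd.exists_shift h5 ha
      · obtain ⟨s, hs, hs0, hQs, has⟩ :=
          exists_singular_perp_in hd.nd (W := D i) (by rw [hd.rank]; exact h.1) a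
        exact ⟨s, hs, hs0, hQs, has, fun e => hQa (by rw [← hQs, e, QuadraticMap.map_neg])⟩
    refine ⟨a + s, (D i).add_mem ha hs, fun e => hsa (eq_neg_of_add_eq_zero_right e),
      fun e => hs0 (add_eq_left.1 e), by rw [q_add, hQs, has, add_zero, add_zero], ?_⟩
    rw [b_add_right, b_self, has, hP]; ring
  · obtain ⟨a', ha', hQa', hB'⟩ := exists_meet hd.nd (hd.nondeg i) (by rw [hd.rank]; exact h3)
      ha ha0 (Q a) (2 * Q a - P) (by
        rw [hd.rank]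
        rcases h with h | h
        · exact Or.inl ⟨h.1, h.2.1⟩
        · exact Or.inr (Or.inr h.1))
    refine ⟨a', ha', fun e => hP ?_, fun e => hP ?_, hQa', hB'⟩
    · rw [e, QuadraticMap.map_zero] at hQa'
      rw [e, b_zero_right, ← hQa'] at hB'
      linear_combination hB'
    · rw [e, b_self] at hB'
      linear_combination hB'

include hM hd0

/-- From one vector meeting two members to the vectors of that pair. -/
theorem mix_pair_gen (h3 : 3 ≤ k) {j l : Fin t} (hjl : j ≠ l) {v : ι → F} (hv : Mix M D d v)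
    (ha0 : proj Q (D j) v ≠ 0) (hc0 : proj Q (D l) v ≠ 0) {x y : ι → F} (hx : x ∈ D j)
    (hy : y ∈ D l) (hx0 : x ≠ 0) (hy0 : y ≠ 0) (hxy : Cls Q d (x + y))
    (h : ((2 : F) ≠ 0 ∧ Q (proj Q (D j) v) ≠ 0 ∧ Q (proj Q (D l) v) ≠ 0 ∧ Q x ≠ 0 ∧ Q y ≠ 0) ∨
      (4 ≤ k ∧ ((Q x ≠ 0 ∧ Q y ≠ 0) ∨ 5 ≤ k ∨ (Q (proj Q (D j) v) ≠ 0 ∧ Q y ≠ 0)))) :
    Mix M D d (x + y) := by
  obtain ⟨u, hu⟩ := hv.1.2
  obtain ⟨u', hu'⟩ := hxy.2
  have hu0 : u ≠ 0 := fun e => mul_ne_zero hd0 hv.1.1 (by rw [hu, e, mul_zero])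
  have hu0' : u' ≠ 0 := fun e => mul_ne_zero hd0 hxy.1 (by rw [hu', e, mul_zero])
  set c0 := u / u' with hc0def
  have hc : c0 ≠ 0 := div_ne_zero hu0 hu0'
  have hscale : c0 * c0 * Q (x + y) = Q v := by
    refine mul_left_cancel₀ hd0 ?_
    rw [hu, hc0def]
    field_simp
    linear_combination hu'
  have hQxy : Q (x + y) = Q x + Q y := by rw [q_add, hd.orth j l hjl x hx y hy, add_zero]
  have hne : ∀ z : ι → F, Q z ≠ 0 → c0 * c0 * Q z ≠ 0 := fun z hz =>
    mul_ne_zero (mul_ne_zero hc hc) hz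
  have ha := hd.comp_mem j v
  have hcm := hd.comp_mem l v
  obtain ⟨a', ha', ha0', haa', hQa, hBa⟩ := hd.exists_partner_diff ha ha0 h3 (c0 * c0 * Q x) (by
    rcases h with h | h
    · exact Or.inl ⟨h.1, h.2.1, hne x h.2.2.2.1⟩
    · refine Or.inr ⟨h.1, ?_⟩
      rcases h.2 with h' | h' | h'
      · exact Or.inl (hne x h'.1)
      · exact Or.inr (Or.inl h')
      · exact Or.inr (Or.inr h'.1))
  obtain ⟨c', hc', hc0', hcc', hQc, hBc⟩ := hd.exists_partner_diff hcm hc0 h3 (c0 * c0 * Q y) (by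
    rcases h with h | h
    · exact Or.inl ⟨h.1, h.2.2.1, hne y h.2.2.2.2⟩
    · refine Or.inr ⟨h.1, ?_⟩
      rcases h.2 with h' | h' | h'
      · exact Or.inl (hne y h'.2)
      · exact Or.inr (Or.inl h')
      · exact Or.inl (hne y h'.2))
  obtain ⟨g, hg, hgP, hga, hgf⟩ := hd.exists_move ha ha' ha0 ha0' h3 hQa.symm (by
    rcases h with h | h
    · exact Or.inl ⟨h.1, h.2.1⟩
    · exact Or.inr h.1)
  obtain ⟨g', hg', hgP', hgc, hgf'⟩ := hd.exists_move hcm hc' hc0 hc0' h3 hQc.symm (by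
    rcases h with h | h
    · exact Or.inl ⟨h.1, h.2.2.1⟩
    · exact Or.inr h.1)
  have e1 : ap g v = v + (a' - proj Q (D j) v) := by
    conv_lhs => rw [← add_sub_cancel (proj Q (D j) v) v]
    rw [ap_add, hga, hgf _ (hd.sub_mem_orth j v)]
    abel
  have ecl : proj Q (D l) (ap g v) = proj Q (D l) v := by
    rw [e1, map_add, hd.comp_other hjl ((D j).sub_mem ha' ha), add_zero]
  have e2 : ap g' (ap g v) = v + ((a' - proj Q (D j) v) + (c' - proj Q (D l) v)) := by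
    conv_lhs => rw [← add_sub_cancel (proj Q (D l) v) (ap g v)]
    rw [ap_add, hgc, hgf' _ (ecl ▸ hd.sub_mem_orth l (ap g v)), e1]
    abel
  have hv' := hd.mix_perm (hd.mix_perm hv (hM g hg hgP) hgP) (hM g' hg' hgP') hgP'
  have hB : B v (ap g' (ap g v)) = Q v := by
    rw [e2, b_add_right, b_add_right, b_self, ← hscale, hQxy,
      b_comm v (a' - _), ← hd.b_comp j v ((D j).sub_mem ha' ha) |>.trans (b_comm _ _),
      b_comm v (c' - _), ← hd.b_comp l v ((D l).sub_mem hc' hcm) |>.trans (b_comm _ _),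
      b_sub_right, b_sub_right, hBa, hBc, b_self, b_self]
    ring
  have hdiff := hd.mix_sub hM hd0 hv hv' hB
  rw [e2, add_sub_cancel_left] at hdiff
  have hq : ∀ (a b : ι → F) (P : F), Q b = Q a → B a b = 2 * Q a - P → Q (b - a) = P := by
    intro a b P hab hBab
    rw [q_sub, hab, b_comm b a, hBab]; ring
  obtain ⟨m, hm, hmP, hmx, hmf⟩ := hd.exists_move ((D j).sub_mem ha' ha) ((D j).smul_mem c0 hx)
    (sub_ne_zero.2 haa') (smul_ne_zero hc hx0) h3 (by rw [q_smul]; exact hq _ _ _ hQa hBa) (by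
      rw [hq _ _ _ hQa hBa]
      rcases h with h | h
      · exact Or.inl ⟨h.1, hne x h.2.2.2.1⟩
      · exact Or.inr h.1)
  obtain ⟨m', hm', hmP', hmy, hmf'⟩ := hd.exists_move ((D l).sub_mem hc' hcm) ((D l).smul_mem c0 hy)
    (sub_ne_zero.2 hcc') (smul_ne_zero hc hy0) h3 (by rw [q_smul]; exact hq _ _ _ hQc hBc) (by
      rw [hq _ _ _ hQc hBc]
      rcases h with h | h
      · exact Or.inl ⟨h.1, hne y h.2.2.2.2⟩
      · exact Or.inr h.1)
  have h3 := hd.mix_perm (hd.mix_perm hdiff (hM m hm hmP) hmP) (hM m' hm' hmP') hmP'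
  rw [ap_add, hmx, hmf _ (hd.mem_orth_of_ne hjl.symm ((D l).sub_mem hc' hcm)), ap_add, hmy,
    hmf' _ (hd.mem_orth_of_ne hjl ((D j).smul_mem c0 hx)), ← smul_add] at h3
  have h4 := hd.mix_smul h3 (inv_ne_zero hc)
  rwa [smul_smul, inv_mul_cancel₀ hc, one_smul] at h4

include hL

/-- Making one component anisotropic. -/
theorem exists_aniso_comp (hq : 4 ≤ Nat.card F) {j l : Fin t} (hjl : j ≠ l) {v : ι → F}
    (hv : Mix M D d v) (ha0 : proj Q (D j) v ≠ 0) (hc0 : proj Q (D l) v ≠ 0) :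
    ∃ v', Mix M D d v' ∧ Q (proj Q (D j) v') ≠ 0 ∧ proj Q (D l) v' ≠ 0 ∧
      Q (proj Q (D l) v') = Q (proj Q (D l) v) := by
  by_cases hA : Q (proj Q (D j) v) = 0
  swap
  · exact ⟨v, hv, hA, hc0, rfl⟩
  obtain ⟨s, hs0, hs1⟩ := exists_sq_ne_one hq
  obtain ⟨b, hb, hQb, hBb⟩ := exists_meet hd.nd (hd.nondeg j) (by rw [hd.rank]; exact hL.1)
    (hd.comp_mem j v) ha0 (s * s * Q v) (Q v) (Or.inr (Or.inl ⟨hA, hv.1.1⟩))
  have hbc : Cls Q d b := by
    obtain ⟨u, hu⟩ := hv.1.2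
    exact ⟨by rw [hQb]; exact mul_ne_zero (mul_ne_zero hs0 hs0) hv.1.1, s * u,
      by rw [hQb]; linear_combination (s * s) * hu⟩
  have hBv : B v b = Q v := by rw [← hd.b_comp j v hb]; exact hBb
  refine ⟨b - v, hd.mix_sub hM hd0 hv (hd.mix_blk hM ⟨j, hb⟩ hbc) hBv, ?_, ?_, ?_⟩
  · rw [map_sub, hd.comp_self hb, q_sub, hQb, hA, b_comm, hBb, add_zero, ← sub_one_mul]
    exact mul_ne_zero (sub_ne_zero.2 hs1) hv.1.1
  · rw [map_sub, hd.comp_other hjl hb, zero_sub]; exact neg_ne_zero.2 hc0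
  · rw [map_sub, hd.comp_other hjl hb, zero_sub, QuadraticMap.map_neg]

/-- All vectors of the class in a pair of members. -/
theorem mix_pair (hq3 : k = 4 → 3 ≤ Nat.card F) {j l : Fin t} (hjl : j ≠ l) {v : ι → F} (hv : Mix M D d v)
    (ha0 : proj Q (D j) v ≠ 0) (hc0 : proj Q (D l) v ≠ 0) :
    ∀ x ∈ D j, ∀ y ∈ D l, Cls Q d (x + y) → Mix M D d (x + y) := by
  have h3 := hL.1
  have haniso : ∀ x ∈ D j, ∀ y ∈ D l, Q x ≠ 0 → Q y ≠ 0 → Cls Q d (x + y) → Mix M D d (x + y) := by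
    intro x hx y hy hQx hQy hxy
    have hx0 : x ≠ 0 := fun e => hQx (by rw [e, QuadraticMap.map_zero])
    have hy0 : y ≠ 0 := fun e => hQy (by rw [e, QuadraticMap.map_zero])
    rcases hL.2 with h | h
    · obtain ⟨v₁, hv₁, hA₁, hc₁, -⟩ := hd.exists_aniso_comp hL hM hd0 h.2 hjl hv ha0 hc0
      obtain ⟨v₂, hv₂, hC₂, ha₂, e₂⟩ := hd.exists_aniso_comp hL hM hd0 h.2 hjl.symm hv₁ hc₁
        (fun e => hA₁ (by rw [e, QuadraticMap.map_zero]))
      exact hd.mix_pair_gen hM hd0 hL.1 hjl hv₂ ha₂ (fun e => hC₂ (by rw [e, QuadraticMap.map_zero]))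
        hx hy hx0 hy0 hxy (Or.inl ⟨h.1, by rw [e₂]; exact hA₁, hC₂, hQx, hQy⟩)
    · exact hd.mix_pair_gen hM hd0 hL.1 hjl hv ha0 hc0 hx hy hx0 hy0 hxy (Or.inr ⟨h, Or.inl ⟨hQx, hQy⟩⟩)
  -- one component singular
  have hsing : ∀ p q : Fin t, p ≠ q →
      (∀ x ∈ D p, ∀ y ∈ D q, Q x ≠ 0 → Q y ≠ 0 → Cls Q d (x + y) → Mix M D d (x + y)) →
      ∀ x ∈ D p, ∀ y ∈ D q, x ≠ 0 → Q x = 0 → k < 5 → Cls Q d (x + y) → Mix M D d (x + y) := by
    intro p q hpq hA x hx y hy hx0 hQx hk5 hxy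
    have hQy : Q (x + y) = Q y := by rw [q_add, hQx, hd.orth p q hpq x hx y hy, zero_add, add_zero]
    have hD0 : Q y ≠ 0 := hQy ▸ hxy.1
    obtain ⟨x1, hx1, hX0, hXD, hxx1⟩ :
        ∃ x1 ∈ D p, Q x1 ≠ 0 ∧ Q x1 ≠ Q y ∧ B x x1 = 0 := by
      by_cases h4 : 4 ≤ k
      · obtain ⟨val, hval, hvald⟩ := exists_ne_two_values (hq3 (by omega)) (Q y)
        obtain ⟨x1, hx1, hQ1⟩ := univ_perp hd.nd (hd.nondeg p) (by rw [hd.rank]; exact h3) hx hx0
          (Or.inr (by rw [hd.rank]; exact h4)) val hval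
        exact ⟨x1, hx1.1, by rw [hQ1]; exact hval, by rw [hQ1]; exact hvald, (mem_relOrth_one.1 hx1).2⟩
      · obtain ⟨x1, hx1, hQ1, hB1⟩ := hd.exists_aniso_perp hL p hx
        by_cases e : Q x1 = Q y
        · obtain ⟨s, hs0, hs1⟩ := exists_sq_ne_one (hL.2.resolve_right h4).2
          refine ⟨s • x1, (D p).smul_mem _ hx1,
            by rw [q_smul]; exact mul_ne_zero (mul_ne_zero hs0 hs0) hQ1, fun e' => hs1 ?_,
            by rw [b_smul_right, hB1, mul_zero]⟩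
          rw [q_smul, e] at e'
          exact mul_right_cancel₀ hD0 (by rw [e', one_mul])
        · exact ⟨x1, hx1, hQ1, e, hB1⟩
    have hy0 : y ≠ 0 := fun e => hD0 (by rw [e, QuadraticMap.map_zero])
    obtain ⟨y1, hy1, hQ1, hB1⟩ := exists_meet hd.nd (hd.nondeg q) (by rw [hd.rank]; exact h3)
      hy hy0 (Q y - Q x1) (Q y) (by
        rw [hd.rank]
        rcases hL.two_or with h | h
        · exact Or.inl ⟨h, hD0⟩
        · exact Or.inr (Or.inr h))
    have hQu : Q (x1 + y1) = Q y := by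
      rw [q_add, hQ1, hd.orth p q hpq x1 hx1 y1 hy1]; ring
    have hcu : Cls Q d (x1 + y1) := ⟨by rw [hQu]; exact hD0, by rw [hQu, ← hQy]; exact hxy.2⟩
    have hu := hA x1 hx1 y1 hy1 hX0 (by rw [hQ1]; exact sub_ne_zero.2 hXD.symm) hcu
    have hBw : B (x + y) (x1 + y1) = Q y := by
      rw [b_add_left, b_add_right, b_add_right, hxx1, hd.orth p q hpq x hx y1 hy1, b_comm y x1,
        hd.orth p q hpq x1 hx1 y hy, hB1]
      ring
    have hQd : Q (x - x1) = Q x1 := by rw [q_sub, hQx, hxx1]; ring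
    have hQe : Q (y - y1) = Q y - Q x1 := by rw [q_sub, hQ1, hB1]; ring
    have hQw : Q ((x - x1) + (y - y1)) = Q y := by
      rw [q_add, hQd, hQe, hd.orth p q hpq _ ((D p).sub_mem hx hx1) _ ((D q).sub_mem hy hy1)]; ring
    have hw := hA (x - x1) ((D p).sub_mem hx hx1) (y - y1) ((D q).sub_mem hy hy1)
      (by rw [hQd]; exact hX0) (by rw [hQe]; exact sub_ne_zero.2 hXD.symm)
      ⟨by rw [hQw]; exact hD0, by rw [hQw, ← hQy]; exact hxy.2⟩
    have hfin := hd.mix_add hM hd0 hu hw (by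
      rw [show (x - x1) + (y - y1) = (x + y) - (x1 + y1) by abel, b_sub_right, b_comm, hBw, b_self,
        hQu]
      ring)
    rwa [show x1 + y1 + ((x - x1) + (y - y1)) = x + y by abel] at hfin
  intro x hx y hy hxy
  by_cases hx0 : x = 0
  · rw [hx0, zero_add] at hxy ⊢; exact hd.mix_blk hM ⟨l, hy⟩ hxy
  by_cases hy0 : y = 0
  · rw [hy0, add_zero] at hxy ⊢; exact hd.mix_blk hM ⟨j, hx⟩ hxy
  by_cases h5 : 5 ≤ k
  · exact hd.mix_pair_gen hM hd0 hL.1 hjl hv ha0 hc0 hx hy hx0 hy0 hxy (Or.inr ⟨by omega, Or.inr (Or.inl h5)⟩)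
  by_cases hQx : Q x = 0
  · exact hsing j l hjl haniso x hx y hy hx0 hQx (by omega) hxy
  by_cases hQy : Q y = 0
  · rw [add_comm] at hxy ⊢
    exact hsing l j hjl.symm (fun p hp q hq hQp hQq hpq => by
      rw [add_comm] at hpq ⊢; exact haniso q hq p hp hQq hQp hpq) y hy x hx hy0 hQy (by omega) hxy
  exact haniso x hx y hy hQx hQy hxy

theorem exists_pair_vec {j l : Fin t} (hjl : j ≠ l) :
    ∃ x ∈ D j, ∃ y ∈ D l, x ≠ 0 ∧ y ≠ 0 ∧ Cls Q d (x + y) := by
  obtain ⟨x, hx, hx0, hQx⟩ := exists_singular (Q := Q) (U := D j) (by rw [hd.rank]; exact hL.1)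
  obtain ⟨y, hy, hyc⟩ := hd.exists_cls l hd0
  have e : Q (x + y) = Q y := by rw [q_add, hQx, hd.orth j l hjl x hx y hy, zero_add, add_zero]
  exact ⟨x, hx, y, hy, hx0, fun e' => hyc.1 (by rw [e', QuadraticMap.map_zero]),
    ⟨by rw [e]; exact hyc.1, by rw [e]; exact hyc.2⟩⟩

/-- One vector outside the members: all pairs of members are covered. -/
theorem mix_all_pairs_of (hq3 : k = 4 → 3 ≤ Nat.card F) {v : ι → F} (hv : Mix M D d v)
    (hvb : ¬ Blk D v) {j l : Fin t} (hjl : j ≠ l) :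
    ∀ x ∈ D j, ∀ y ∈ D l, Cls Q d (x + y) → Mix M D d (x + y) := by
  rw [hd.blk_iff] at hvb
  push Not at hvb
  obtain ⟨a, b, hab, ha, hb⟩ := hvb
  let Ok : Fin t → Fin t → Prop := fun p q =>
    ∃ w, Mix M D d w ∧ proj Q (D p) w ≠ 0 ∧ proj Q (D q) w ≠ 0
  have hsym : ∀ p q, Ok p q → Ok q p := fun p q ⟨w, h1, h2, h3⟩ => ⟨w, h1, h3, h2⟩
  have hstep : ∀ p q r, p ≠ q → p ≠ r → q ≠ r → Ok p q → Ok p r := by
    intro p q r hpq hpr hqr ⟨w, hw, hwp, hwq⟩
    obtain ⟨x, hx, y, hy, hx0, hy0, hxy⟩ := hd.exists_pair_vec hL hM hd0 hpq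
    obtain ⟨g, hg, hgP, hgq, hgf⟩ := hd.exists_swap hqr
    have hm := hd.mix_perm (hd.mix_pair hL hM hd0 hq3 hpq hw hwp hwq x hx y hy hxy) (hM g hg hgP) hgP
    rw [ap_add, hgf p hpq hpr x hx] at hm
    have hc := hd.comp_pair hpr hx (hgq y hy)
    exact ⟨_, hm, by rw [hc.1]; exact hx0,
      by rw [hc.2]; exact fun e => hy0 (ap_inj g (by rw [e, ap_zero]))⟩
  have hall : ∀ p q, p ≠ q → Ok p q := by
    have h0 : Ok a b := ⟨v, hv, ha, hb⟩
    have h1 : ∀ q, q ≠ a → Ok a q := fun q hq => by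
      by_cases e : q = b
      · exact e ▸ h0
      · exact hstep a b q hab (Ne.symm hq) (Ne.symm e) h0
    intro p q hpq
    by_cases hp : p = a
    · exact hp ▸ h1 q (hp ▸ hpq.symm)
    by_cases hq : q = a
    · exact hq ▸ hsym a p (h1 p hp)
    · exact hstep p a q hp hpq (Ne.symm hq) (hsym a p (h1 p hp))
  obtain ⟨w, hw, hwj, hwl⟩ := hall j l hjl
  exact hd.mix_pair hL hM hd0 hq3 hjl hw hwj hwl

/-- The case of four-dimensional members over two elements. -/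
theorem mix_all_pairs_two (h4 : k = 4) (hq : ¬ 3 ≤ Nat.card F) {v : ι → F} (hv : Mix M D d v)
    (hvb : ¬ Blk D v) {j l : Fin t} (hjl : j ≠ l) :
    ∀ x ∈ D j, ∀ y ∈ D l, Cls Q d (x + y) → Mix M D d (x + y) := by
  have hone : ∀ {x : F}, x ≠ 0 → x = 1 := eq_one_of_card_two hq
  let Ok : Fin t → Fin t → Prop := fun p q =>
    ∃ w, Mix M D d w ∧ Q (proj Q (D p) w) ≠ 0 ∧ proj Q (D q) w ≠ 0
  have hd1 : d = 1 := hone hd0
  have hcls : ∀ {x y : ι → F} (p q : Fin t), p ≠ q → x ∈ D p → y ∈ D q → Q x = 0 → Q y ≠ 0 →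
      Cls Q d (x + y) := by
    intro x y p q hpq hx hy hQx hQy
    have e : Q (x + y) = Q y := by rw [q_add, hQx, hd.orth p q hpq x hx y hy, zero_add, add_zero]
    exact ⟨by rw [e]; exact hQy, 1, by rw [e, hd1, hone hQy]⟩
  have hgen : ∀ p q, p ≠ q → Ok p q → ∀ x ∈ D p, ∀ y ∈ D q, x ≠ 0 → Q x = 0 → Q y ≠ 0 →
      Mix M D d (x + y) := by
    intro p q hpq ⟨w, hw, hwp, hwq⟩ x hx y hy hx0 hQx hQy
    exact hd.mix_pair_gen hM hd0 hL.1 hpq hw (fun e => hwp (by rw [e, QuadraticMap.map_zero])) hwq hx hy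
      hx0 (fun e => hQy (by rw [e, QuadraticMap.map_zero])) (hcls p q hpq hx hy hQx hQy)
      (Or.inr ⟨h4.ge, Or.inr (Or.inr ⟨hwp, hQy⟩)⟩)
  have hsym : ∀ p q, p ≠ q → Ok p q → Ok q p := by
    intro p q hpq h
    obtain ⟨x, hx, hx0, hQx⟩ := exists_singular (Q := Q) (U := D p) (by rw [hd.rank]; omega)
    obtain ⟨y, hy, hyc⟩ := hd.exists_cls q hd0
    refine ⟨_, hgen p q hpq h x hx y hy hx0 hQx hyc.1, ?_, ?_⟩
    · rw [(hd.comp_pair hpq hx hy).2]; exact hyc.1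
    · rw [(hd.comp_pair hpq hx hy).1]; exact hx0
  have hstep : ∀ p q r, p ≠ q → p ≠ r → q ≠ r → Ok p q → Ok p r := by
    intro p q r hpq hpr hqr h
    obtain ⟨y, hy, hy0, hQy⟩ := exists_singular (Q := Q) (U := D q) (by rw [hd.rank]; omega)
    obtain ⟨x, hx, hxc⟩ := hd.exists_cls p hd0
    obtain ⟨g, hg, hgP, hgq, hgf⟩ := hd.exists_swap hqr
    have h1 := hgen q p hpq.symm (hsym p q hpq h) y hy x hx hy0 hQy hxc.1
    have hm := hd.mix_perm h1 (hM g hg hgP) hgP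
    rw [ap_add, hgf p hpq hpr x hx] at hm
    have hc := hd.comp_pair hpr.symm (hgq y hy) hx
    exact ⟨_, hm, by rw [hc.2]; exact hxc.1,
      by rw [hc.1]; exact fun e => hy0 (ap_inj g (by rw [e, ap_zero]))⟩
  obtain ⟨a, ha⟩ : ∃ a, Q (proj Q (D a) v) ≠ 0 := by
    by_contra hc
    push Not at hc
    refine hv.1.1 ?_
    suffices h : ∀ s : Finset (Fin t), Q (∑ i ∈ s, proj Q (D i) v) = 0 by
      rw [← hd.sum_comp v]; exact h _
    intro s
    induction s using Finset.induction_on with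
    | empty => rw [Finset.sum_empty, QuadraticMap.map_zero]
    | insert i s hi ih =>
      rw [Finset.sum_insert hi, q_add, hc i, ih, ← QuadraticMap.polarBilin_apply_apply, map_sum,
        Finset.sum_eq_zero, add_zero, add_zero]
      intro m hm
      show B (proj Q (D i) v) (proj Q (D m) v) = 0
      exact hd.orth i m (fun e => hi (e ▸ hm)) _ (hd.comp_mem i v) _ (hd.comp_mem m v)
  obtain ⟨b, hab, hb⟩ : ∃ b, a ≠ b ∧ proj Q (D b) v ≠ 0 := by
    by_contra hc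
    push Not at hc
    exact hvb ⟨a, hd.eq_comp_of_others fun m hm => hc m (Ne.symm hm)⟩
  have h1 : ∀ q, q ≠ a → Ok a q := fun q hq => by
    by_cases e : q = b
    · exact e ▸ ⟨v, hv, ha, hb⟩
    · exact hstep a b q hab (Ne.symm hq) (Ne.symm e) ⟨v, hv, ha, hb⟩
  have hall : ∀ p q, p ≠ q → Ok p q := by
    intro p q hpq
    by_cases hp : p = a
    · exact hp ▸ h1 q (hp ▸ hpq.symm)
    by_cases hq' : q = a
    · exact hq' ▸ hsym a p (Ne.symm hp) (h1 p hp)
    · exact hstep p a q hp hpq (Ne.symm hq') (hsym a p (Ne.symm hp) (h1 p hp))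
  intro x hx y hy hxy
  by_cases hx0 : x = 0
  · rw [hx0, zero_add] at hxy ⊢; exact hd.mix_blk hM ⟨l, hy⟩ hxy
  by_cases hy0 : y = 0
  · rw [hy0, add_zero] at hxy ⊢; exact hd.mix_blk hM ⟨j, hx⟩ hxy
  have hQ : Q (x + y) = Q x + Q y := by rw [q_add, hd.orth j l hjl x hx y hy, add_zero]
  have htwo : (1 : F) + 1 = 0 := by
    by_contra e
    have := hone e
    rw [add_eq_left] at this
    exact one_ne_zero this
  by_cases hQx : Q x = 0
  · exact hgen j l hjl (hall j l hjl) x hx y hy hx0 hQx fun e =>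
      hxy.1 (by rw [hQ, hQx, e, add_zero])
  · rw [add_comm]
    refine hgen l j hjl.symm (hall l j hjl.symm) y hy x hx hy0 ?_ hQx
    by_contra hQy
    exact hxy.1 (by rw [hQ, hone hQx, hone hQy, htwo])

/-- All pairs of members are covered. -/
theorem mix_all_pairs {v : ι → F} (hv : Mix M D d v) (hvb : ¬ Blk D v) {j l : Fin t} (hjl : j ≠ l) :
    ∀ x ∈ D j, ∀ y ∈ D l, Cls Q d (x + y) → Mix M D d (x + y) := by
  by_cases hq3 : k = 4 → 3 ≤ Nat.card F
  · exact hd.mix_all_pairs_of hL hM hd0 hq3 hv hvb hjl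
  · push Not at hq3
    exact hd.mix_all_pairs_two hL hM hd0 hq3.1 (by omega) hv hvb hjl

/-- One vector outside the members: the whole class. -/
theorem mix_all {v : ι → F} (hv : Mix M D d v) (hvb : ¬ Blk D v) {w : ι → F} (hw : Cls Q d w) :
    Mix M D d w := by
  classical
  obtain ⟨N, hN⟩ : ∃ N, N = (Finset.univ.filter fun i => proj Q (D i) w ≠ 0).card := ⟨_, rfl⟩
  induction N using Nat.strong_induction_on generalizing w with
  | _ N ih =>
    by_cases hb : Blk D w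
    · exact hd.mix_blk hM hb hw
    rw [hd.blk_iff] at hb
    push Not at hb
    obtain ⟨i, l, hil, hi, hl⟩ := hb
    set a := proj Q (D i) w with hadef
    set c := proj Q (D l) w with hcdef
    have ha : a ∈ D i := hd.comp_mem i w
    have hc : c ∈ D l := hd.comp_mem l w
    obtain ⟨s, hs0, hsyp⟩ : ∃ s : F, s ≠ 0 ∧ (((2 : F) ≠ 0 ∧ Q a ≠ 0) ∨
        (Q a = 0 ∧ 2 * Q (a + c) - s * s * Q w ≠ 0) ∨ 4 ≤ Module.finrank F (D i)) := by
      rcases hL.2 with h | h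
      · by_cases hA : Q a = 0
        · by_cases h1 : 2 * Q (a + c) - 1 * 1 * Q w = 0
          · obtain ⟨s, hs0, hs1⟩ := exists_sq_ne_one h.2
            refine ⟨s, hs0, Or.inr (Or.inl ⟨hA, fun e => hs1 (mul_right_cancel₀ hw.1 ?_)⟩)⟩
            linear_combination h1 - e
          · exact ⟨1, one_ne_zero, Or.inr (Or.inl ⟨hA, h1⟩)⟩
        · exact ⟨1, one_ne_zero, Or.inl ⟨h.1, hA⟩⟩
      · exact ⟨1, one_ne_zero, Or.inr (Or.inr (by rw [hd.rank]; exact h))⟩
    obtain ⟨z, hz, hQz, hBz⟩ := exists_meet hd.nd (hd.nondeg i) (by rw [hd.rank]; exact hL.1)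
      ha hi (Q (a + c)) (2 * Q (a + c) - s * s * Q w) hsyp
    have hBzc : B z c = 0 := hd.orth i l hil z hz c hc
    set u := (a - z) + c with hudef
    have hQu : Q u = s * s * Q w := by
      rw [show u = (a + c) - z by rw [hudef]; abel, q_sub, hQz, b_comm, b_add_right, hBzc,
        b_comm z a, hBz]
      ring
    have huc : Cls Q d u := by
      obtain ⟨p, hp⟩ := hw.2
      exact ⟨by rw [hQu]; exact mul_ne_zero (mul_ne_zero hs0 hs0) hw.1, s * p,
        by rw [hQu]; linear_combination (s * s) * hp⟩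
    have hu := hd.mix_all_pairs hL hM hd0 hv hvb hil _ ((D i).sub_mem ha hz) c hc huc
    have hBuw : B u w = Q u := by
      rw [hQu, hudef, b_add_left, b_comm (a - z), ← hd.b_comp i w ((D i).sub_mem ha hz),
        b_comm c w, ← hd.b_comp l w hc, ← hadef, ← hcdef, b_sub_right, b_self, b_self, hBz,
        q_add, hd.orth i l hil a ha c hc]
      ring
    have hQwu : Q (w - u) = Q w := by rw [q_sub, b_comm, hBuw]; ring
    have hcompu : ∀ m, m ≠ i → m ≠ l → proj Q (D m) u = 0 := fun m h1 h2 => by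
      rw [hudef, map_add, hd.comp_other h1.symm ((D i).sub_mem ha hz),
        hd.comp_other h2.symm hc, add_zero]
    have hlt : (Finset.univ.filter fun m => proj Q (D m) (w - u) ≠ 0).card < N := by
      rw [hN]
      refine Finset.card_lt_card ⟨fun m hm => ?_, fun hsub => ?_⟩
      · simp only [Finset.mem_filter, Finset.mem_univ, true_and] at hm ⊢
        intro e
        by_cases h1 : m = i
        · exact hi (by rw [hadef, ← h1]; exact e)
        by_cases h2 : m = l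
        · exact hl (by rw [hcdef, ← h2]; exact e)
        · exact hm (by rw [map_sub, e, hcompu m h1 h2, sub_zero])
      · have h1 := hsub (Finset.mem_filter.2 ⟨Finset.mem_univ l, hl⟩)
        simp only [Finset.mem_filter, Finset.mem_univ, true_and] at h1
        refine h1 ?_
        rw [map_sub, hudef, (hd.comp_pair hil ((D i).sub_mem ha hz) hc).2, ← hcdef, sub_self]
    have hrec := ih _ hlt (w := w - u) ⟨by rw [hQwu]; exact hw.1, by rw [hQwu]; exact hw.2⟩ rfl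
    have := hd.mix_add hM hd0 hu hrec (by rw [b_sub_right, hBuw, b_self]; ring)
    rwa [add_sub_cancel] at this

omit hd0

/-- Overgroups of the stabiliser. -/
theorem omega_le_or_perm (ht : 3 ≤ t) :
    Cfsg.Omega F ⇑Q ≤ M ∨ ∀ g ∈ M, Perm D g := by
  by_cases hno : ∀ d, d ≠ 0 → ∀ x, Mix M D d x → Blk D x
  · exact Or.inr fun g hg => hd.perm_of_not_mix hL ht hM hno hg
  push Not at hno
  obtain ⟨d, hd0, v, hv, hvb⟩ := hno
  left
  let S : Set (Grp Q) :=
    {g | ∃ x y r s, Cls Q d x ∧ Cls Q d y ∧ IsRefl x r ∧ IsRefl y s ∧ g = r * s}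
  have hSO : ∀ g ∈ S, g ∈ Cfsg.Omega F ⇑Q := by
    rintro g ⟨x, y, r, s, hx, hy, hr, hs, rfl⟩
    have := QuotientGroup.eq.1 (refl_coset hd.nd hd.dim hr hs (cls_pair hd0 hx hy))
    rwa [refl_inv' hr] at this
  have hNM : Subgroup.closure S ≤ M := (Subgroup.closure_le _).2 (by
    rintro g ⟨x, y, r, s, hx, hy, hr, hs, rfl⟩
    exact (hd.mix_rel hM hd0 (hd.mix_all hL hM hd0 hv hvb hx) (hd.mix_all hL hM hd0 hv hvb hy)).2.2
      r s hr hs)
  refine le_trans ?_ hNM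
  obtain ⟨p, hp, hpc⟩ := hd.exists_cls ⟨0, by omega⟩ hd0
  obtain ⟨y, hy, hyc⟩ := hd.exists_cls ⟨1, by omega⟩ hd0
  have hp0 : p ≠ 0 := fun e => hpc.1 (by rw [e, QuadraticMap.map_zero])
  obtain ⟨β, hβ⟩ : ∃ β : F, (((2 : F) = 0 → β = 1) ∧ ((2 : F) ≠ 0 → β = 0)) := by
    by_cases e : (2 : F) = 0
    · exact ⟨1, fun _ => rfl, fun h => absurd e h⟩
    · exact ⟨0, fun h => absurd h e, fun _ => rfl⟩
  obtain ⟨p', hp', hQp', hBp'⟩ := exists_meet hd.nd (hd.nondeg _) (by rw [hd.rank]; exact hL.1)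
    hp hp0 (Q p) β (by
      rw [hd.rank]
      rcases hL.two_or with h | h
      · exact Or.inl ⟨h, hpc.1⟩
      · exact Or.inr (Or.inr h))
  have hp0' : p' ≠ 0 := fun e => hpc.1 (by rw [← hQp', e, QuadraticMap.map_zero])
  obtain ⟨g, hg, -, hgp, hgf⟩ := hd.exists_move hp hp' hp0 hp0' hL.1 hQp'.symm (by
    rcases hL.two_or with h | h
    · exact Or.inl ⟨h, hpc.1⟩
    · exact Or.inr h)
  obtain ⟨r, hr⟩ := exists_refl hd.nd hpc.1
  obtain ⟨s, hs⟩ := exists_refl hd.nd hyc.1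
  refine omega_le_of_normal hd.nd hd.dim _ (fun a _ x hx => ?_)
    (Subgroup.subset_closure (show r * s ∈ S from ⟨p, y, r, s, hpc, hyc, hr, hs, rfl⟩))
    (hSO _ ⟨p, y, r, s, hpc, hyc, hr, hs, rfl⟩) hg ?_
  · induction hx using Subgroup.closure_induction with
    | mem z hz =>
      obtain ⟨x, y, r, s, hx, hy, hr, hs, rfl⟩ := hz
      exact Subgroup.subset_closure ⟨_, _, _, _, cls_ap hx a, cls_ap hy a, refl_conj hr a,
        refl_conj hs a, by group⟩
    | one => rw [mul_one, mul_inv_cancel]; exact one_mem _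
    | mul z w _ _ hz hw =>
      rw [show a * (z * w) * a⁻¹ = (a * z * a⁻¹) * (a * w * a⁻¹) by group]; exact mul_mem hz hw
    | inv z _ hz => rw [show a * z⁻¹ * a⁻¹ = (a * z * a⁻¹)⁻¹ by group]; exact inv_mem hz
  · intro hcomm
    have hgy : ap g y = y := hgf y (hd.mem_orth_of_ne (by simp) hy)
    have hr' : IsRefl p' (g * r * g⁻¹) := hgp ▸ refl_conj hr g
    have hs' : g * s * g⁻¹ = s := refl_unique (hgy ▸ refl_conj hs g) hs
    have e : g * r * g⁻¹ = r := by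
      have h : g * (r * s) * g⁻¹ = r * s := by rw [← hcomm, mul_inv_cancel_right]
      rw [show g * (r * s) * g⁻¹ = (g * r * g⁻¹) * (g * s * g⁻¹) by group, hs'] at h
      exact mul_right_cancel h
    rw [e] at hr'
    have h1 : ap r p = -p := refl_self hr
    rw [hr'.2, hQp', b_comm, hBp'] at h1
    by_cases h2 : (2 : F) = 0
    · rw [hβ.1 h2, mul_one, sub_eq_iff_eq_add] at h1
      have hz : (Q p)⁻¹ • p' = 0 := by
        have hpp : p + p = 0 := by rw [← two_smul F, h2, zero_smul]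
        linear_combination (norm := module) hpp - h1
      exact hp0' ((smul_eq_zero.1 hz).resolve_left (inv_ne_zero hpc.1))
    · rw [hβ.2 h2, mul_zero, zero_smul, sub_zero, eq_neg_iff_add_eq_zero, ← two_smul F,
        smul_eq_zero] at h1
      exact h1.elim h2 hp0

omit hM

/-- The stabiliser is proper. -/
theorem exists_not_perm : ∃ g : Grp Q, g ∈ Cfsg.Omega F ⇑Q ∧ ¬ Perm D g := by
  have ht := hd.two_le
  set j : Fin t := ⟨0, by omega⟩ with hj
  set l : Fin t := ⟨1, by omega⟩ with hl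
  have hjl : j ≠ l := by simp [hj, hl]
  obtain ⟨x, hx, hx0, hQx⟩ := exists_singular (Q := Q) (U := D j) (by rw [hd.rank]; exact hL.1)
  obtain ⟨y, hy, hyc⟩ := hd.exists_cls l (one_ne_zero (α := F))
  obtain ⟨b, hb, hQb, hBb⟩ := exists_meet hd.nd (hd.nondeg j) (by rw [hd.rank]; exact hL.1)
    hx hx0 (Q y) 1 (hd.meet_hyp hL x one_ne_zero j)
  have hBv : B (x + y) b = 1 := by
    rw [b_add_left, hBb, b_comm, hd.orth j l hjl b hb y hy, add_zero]
  have hQv : Q (x + y) = Q y := by rw [q_add, hQx, hd.orth j l hjl x hx y hy, zero_add, add_zero]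
  obtain ⟨r, hr⟩ := exists_refl hd.nd (v := x + y) (by rw [hQv]; exact hyc.1)
  obtain ⟨s, hs⟩ := exists_refl hd.nd (v := b) (by rw [hQb]; exact hyc.1)
  refine ⟨r * s, ?_, fun hP => ?_⟩
  · have := QuotientGroup.eq.1 (refl_coset hd.nd hd.dim hr hs ⟨Q y, by rw [hQv, hQb]⟩)
    rwa [refl_inv' hr] at this
  have hyne : y ≠ 0 := fun e => hyc.1 (by rw [e, QuadraticMap.map_zero])
  have hblk : ¬ Blk D (x + y) := by
    rw [hd.blk_iff]
    intro h
    rcases h j l hjl with h | h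
    · exact hx0 ((hd.comp_pair hjl hx hy).1 ▸ h)
    · exact hyne ((hd.comp_pair hjl hx hy).2 ▸ h)
  refine hblk ((hd.pair_supp hL.1 hr hs (fun c e => hblk ⟨j, e ▸ (D j).smul_mem c hb⟩) hP).2 ?_)
  rw [hBv]
  exact one_ne_zero

theorem isMaximalIn (ht : 3 ≤ t) :
    Cfsg.Geo.IsMaximalIn (Cfsg.Geo.omegaGL ⇑Q)
      (Cfsg.Geo.decompositionStabilizer D ⊓ Cfsg.Geo.omegaGL ⇑Q) := by
  refine isMaximalIn_omegaGL
    (H := (Cfsg.Geo.decompositionStabilizer D).comap (Cfsg.isometryGroup F ⇑Q).subtype)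
    (fun _ => Iff.rfl) ⟨lt_of_le_not_ge inf_le_right fun hge => ?_, fun M h1 h2 => ?_⟩
  · obtain ⟨g, hg, hgP⟩ := hd.exists_not_perm hL
    exact hgP (hd.perm_iff.2 (hge hg).1)
  · have hM : ∀ g, g ∈ Cfsg.Omega F ⇑Q → Perm D g → g ∈ M := fun g hg hP =>
      h1 ⟨hd.perm_iff.1 hP, hg⟩
    rcases hd.omega_le_or_perm hL hM ht with h | h
    · exact Or.inr (le_antisymm h2 h)
    · exact Or.inl (le_antisymm (fun g hg => ⟨hd.perm_iff.1 (h g hg), h2 hg⟩) h1)

end Dec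

end CfsgLib.Orth.DecompMax
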