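import Cfsg.Agent.Lib.Classical.OrthDecompMax.Spread
import Cfsg.Agent.Lib.Classical.OrthNondegMax

set_option autoImplicit false
set_option linter.unusedSectionVars false

/-!
From the frozen decompositions to the structure used in the maximality proof.
-/

namespace CfsgLib.Orth.DecompMax

open Matrix

variable {F : Type*} [Field F] [Finite F] {ι : Type} [Fintype ι] [DecidableEq ι]
variable {Q : QuadraticForm F (ι → F)} {t k : ℕ} {D : Fin t → Submodule F (ι → F)}

theorem mul_eq_finrank (hD : Cfsg.Geo.IsOrthogonalMDecomposition ⇑Q k D) :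
    t * k = Module.finrank F (ι → F) := by
  classical
  have hint : DirectSum.IsInternal D := DirectSum.isInternal_submodule_of_iSupIndep_of_iSup_eq_top
    hD.decomp.decomp.indep hD.decomp.decomp.iSup_eq_top
  have := LinearEquiv.finrank_eq (LinearEquiv.ofBijective (DirectSum.coeLinearMap D) hint)
  rw [Module.finrank_directSum] at this
  simp only [hD.decomp.decomp.finrank_eq, Finset.sum_const, Finset.card_univ, Fintype.card_fin,
    smul_eq_mul] at this
  exact this

theorem dec_of (hB : Nondeg Q) (hn : 5 ≤ Module.finrank F (ι → F)) (hk : 2 ≤ k)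
    (hD : Cfsg.Geo.IsOrthogonalMDecomposition ⇑Q k D)
    (hfine : k = 4 → 3 ≤ Nat.card F ∨ ∀ i, ∀ a ∈ D i, ∀ b ∈ D i,
      a ≠ 0 → b ≠ 0 → a ≠ b → Q a = 0 → Q b = 0 → QuadraticMap.polar ⇑Q a b ≠ 0) :
    Dec Q k D where
  nd := hB
  dim := hn
  two_le := hD.decomp.decomp.two_le
  two_le_rank := hk
  nondeg i := nondegOn_of (hD.decomp.nondegenerate i)
  orth := hD.decomp.orthogonal
  top := hD.decomp.decomp.iSup_eq_top
  rank := hD.decomp.decomp.finrank_eq
  fine := hfine
  iso := hD.isometric

end CfsgLib.Orth.DecompMax
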