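import Cfsg.Agent.Lib.Classical.OrthDecompMax.Local

set_option autoImplicit false
set_option linter.unusedSectionVars false

/-!
An overgroup of the stabiliser relating only vectors inside members permutes the members.
-/

namespace CfsgLib.Orth.DecompMax

open Matrix

variable {F : Type*} [Field F] [Finite F] {ι : Type} [Fintype ι] [DecidableEq ι]
variable {Q : QuadraticForm F (ι → F)}

local notation "B" => QuadraticMap.polar (DFunLike.coe Q)

variable {t k : ℕ} {D : Fin t → Submodule F (ι → F)}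

/-- The small cases excluded. -/
def Large (F : Type*) [Field F] (k : ℕ) : Prop :=
  3 ≤ k ∧ (((2 : F) ≠ 0 ∧ 4 ≤ Nat.card F) ∨ 4 ≤ k)

theorem Large.two_or (h : Large F k) : (2 : F) ≠ 0 ∨ 4 ≤ k := h.2.imp_left And.left

theorem exists_sq_ne_one (h : 4 ≤ Nat.card F) : ∃ s : F, s ≠ 0 ∧ s * s ≠ 1 := by
  classical
  cases nonempty_fintype F
  by_contra hc
  push Not at hc
  have hsub : (Finset.univ : Finset F) ⊆ {0, 1, -1} := fun s _ => by
    by_cases e : s = 0
    · simp [e]
    · rcases mul_self_eq_one_iff.1 (hc s e) with e' | e' <;> simp [e']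
  have := (Finset.card_le_card hsub).trans Finset.card_le_three
  rw [Finset.card_univ, ← Nat.card_eq_fintype_card] at this
  omega

theorem eq_one_of_card_two (h : ¬ 3 ≤ Nat.card F) {x : F} (hx : x ≠ 0) : x = 1 := by
  classical
  cases nonempty_fintype F
  by_contra h1
  refine h ?_
  rw [Nat.card_eq_fintype_card]
  refine le_trans (le_of_eq ?_) (Finset.card_le_univ ({0, 1, x} : Finset F))
  rw [Finset.card_insert_of_notMem, Finset.card_insert_of_notMem, Finset.card_singleton]
  · simpa using Ne.symm h1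
  · simp [Ne.symm hx]

theorem exists_ne_two_values (h : 3 ≤ Nat.card F) (d : F) : ∃ v : F, v ≠ 0 ∧ v ≠ d := by
  classical
  cases nonempty_fintype F
  by_contra hc
  push Not at hc
  have hsub : (Finset.univ : Finset F) ⊆ {0, d} := fun v _ => by
    by_cases e : v = 0
    · simp [e]
    · simp [hc v e]
  have := (Finset.card_le_card hsub).trans Finset.card_le_two
  rw [Finset.card_univ, ← Nat.card_eq_fintype_card] at this
  omega

namespace Dec

variable (hd : Dec Q k D)
include hd

theorem exists_cls (i : Fin t) {d : F} (hd0 : d ≠ 0) : ∃ x ∈ D i, Cls Q d x := by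
  obtain ⟨x, hx, hQx⟩ := univ_member (hd.nondeg i) (by have := hd.two_le_rank; rw [hd.rank]; omega) d hd0
  exact ⟨x, hx, by rw [hQx]; exact hd0, d, by rw [hQx]⟩

theorem meet_hyp (hL : Large F k) (a : ι → F) {β : F} (hβ : β ≠ 0) (i : Fin t) :
    ((2 : F) ≠ 0 ∧ Q a ≠ 0) ∨ (Q a = 0 ∧ β ≠ 0) ∨ 4 ≤ Module.finrank F (D i) := by
  rw [hd.rank]
  rcases hL.two_or with h | h
  · by_cases e : Q a = 0
    · exact Or.inr (Or.inl ⟨e, hβ⟩)
    · exact Or.inl ⟨h, e⟩
  · exact Or.inr (Or.inr h)

/-- The vectors of one class span each member. -/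
theorem span_cls (hL : Large F k) (i : Fin t) {d : F} (hd0 : d ≠ 0) :
    Submodule.span F {x | x ∈ D i ∧ Cls Q d x} = D i := by
  set S := Submodule.span F {x | x ∈ D i ∧ Cls Q d x} with hS
  have hle : S ≤ D i := Submodule.span_le.2 fun x hx => hx.1
  by_contra hne
  have hlt : Module.finrank F S < Module.finrank F (D i) :=
    Submodule.finrank_lt_finrank_of_lt (lt_of_le_of_ne hle hne)
  have h1 := finrank_relOrth hd.nd (D i) S
  obtain ⟨n, hn, hn0⟩ := (relOrth Q (D i) S).exists_mem_ne_zero_of_ne_bot fun e => by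
    rw [e, finrank_bot] at h1; omega
  obtain ⟨z, hz, hQz, hnz⟩ := exists_meet hd.nd (hd.nondeg i) (by rw [hd.rank]; exact hL.1)
    hn.1 hn0 d 1 (hd.meet_hyp hL n one_ne_zero i)
  have h0 : B z n = 0 := hn.2 z (Submodule.subset_span
    ⟨hz, by rw [hQz]; exact hd0, d, by rw [hQz]⟩)
  rw [b_comm, hnz] at h0
  exact one_ne_zero h0

/-- A vector of the given class meeting both summands. -/
theorem exists_split_vec (hL : Large F k) {i : Fin t} {X R : Submodule F (ι → F)}
    (hXi : X ≤ D i) (hRi : R ≤ D i) (hXn : NondegOn Q X)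
    (hRn : NondegOn Q R) (hperp : ∀ x ∈ X, ∀ y ∈ R, B x y = 0) (hR0 : R ≠ ⊥)
    (hk : Module.finrank F X + Module.finrank F R = k) (hX : 2 ≤ Module.finrank F X) {d : F}
    (hd0 : d ≠ 0) : ∃ a ∈ X, ∃ c ∈ R, a ≠ 0 ∧ c ≠ 0 ∧ Cls Q d (a + c) := by
  have hcls : ∀ a ∈ X, ∀ c ∈ R, Q a + Q c = d → Cls Q d (a + c) := by
    intro a ha c hc h
    have e : Q (a + c) = d := by rw [q_add, hperp a ha c hc, add_zero, h]
    exact ⟨by rw [e]; exact hd0, d, by rw [e]⟩
  have go : ∀ c ∈ R, c ≠ 0 → Q c ≠ d → ∃ a ∈ X, ∃ c ∈ R, a ≠ 0 ∧ c ≠ 0 ∧ Cls Q d (a + c) := by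
    intro c hc hc0 hne
    obtain ⟨a, ha, hQa⟩ := univ_member hXn hX (d - Q c) (sub_ne_zero.2 (Ne.symm hne))
    refine ⟨a, ha, c, hc, fun e => ?_, hc0, hcls a ha c hc (by rw [hQa, sub_add_cancel])⟩
    rw [e, QuadraticMap.map_zero] at hQa
    exact hne (sub_eq_zero.1 hQa.symm).symm
  obtain ⟨c, hc, hc0⟩ := R.exists_mem_ne_zero_of_ne_bot hR0
  by_cases hcd : Q c = d
  swap
  · exact go c hc hc0 hcd
  by_cases h3 : 3 ≤ Module.finrank F X
  · obtain ⟨a, ha, ha0, hQa⟩ := exists_singular (Q := Q) h3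
    exact ⟨a, ha, c, hc, ha0, hc0, hcls a ha c hc (by rw [hQa, hcd, zero_add])⟩
  by_cases h5 : 5 ≤ k
  · obtain ⟨c', hc', hc0', hQc'⟩ := exists_singular (Q := Q) (U := R) (by omega)
    exact go c' hc' hc0' (by rw [hQc']; exact hd0.symm)
  have := hL.1
  by_cases h4 : k = 4
  · by_cases hq : 3 ≤ Nat.card F
    swap
    · have hone : ∀ {x : F}, x ≠ 0 → x = 1 := eq_one_of_card_two hq
      by_cases hXs : ∃ a ∈ X, a ≠ 0 ∧ Q a = 0
      · obtain ⟨a, ha, ha0, hQa⟩ := hXs
        exact ⟨a, ha, c, hc, ha0, hc0, hcls a ha c hc (by rw [hQa, hcd, zero_add])⟩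
      by_cases hRs : ∃ c ∈ R, c ≠ 0 ∧ Q c = 0
      · obtain ⟨c', hc', hc0', hQc'⟩ := hRs
        exact go c' hc' hc0' (by rw [hQc']; exact hd0.symm)
      push Not at hXs hRs
      exfalso
      have hpair : ∀ (Y : Submodule F (ι → F)), 2 ≤ Module.finrank F Y →
          ∃ a ∈ Y, ∃ b ∈ Y, a ≠ 0 ∧ b ≠ 0 ∧ a + b ≠ 0 ∧ a ≠ b := by
        intro Y hY
        obtain ⟨a, ha, ha0⟩ := Y.exists_mem_ne_zero_of_ne_bot fun e => by
          rw [e, finrank_bot] at hY; omega
        obtain ⟨b, hb, hba⟩ : ∃ b ∈ Y, b ∉ Submodule.span F {a} := by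
          by_contra hc
          push Not at hc
          have := (Submodule.finrank_mono (show Y ≤ _ from hc)).trans (finrank_span_singleton ha0).le
          omega
        refine ⟨a, ha, b, hb, ha0, fun e => hba (e ▸ Submodule.zero_mem _), fun e => hba ?_,
          fun e => hba (e ▸ Submodule.mem_span_singleton_self a)⟩
        rw [eq_neg_of_add_eq_zero_right e]
        exact neg_mem (Submodule.mem_span_singleton_self a)
      obtain ⟨a₁, ha₁, a₂, ha₂, hn₁, hn₂, hn₁₂, hne⟩ := hpair X hX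
      obtain ⟨c₁, hc₁, c₂, hc₂, hm₁, hm₂, hm₁₂, hmne⟩ := hpair R (by omega)
      have hB : ∀ (Y : Submodule F (ι → F)), (∀ a ∈ Y, a ≠ 0 → Q a ≠ 0) → ∀ a ∈ Y, ∀ b ∈ Y,
          a ≠ 0 → b ≠ 0 → a + b ≠ 0 → 1 + B a b = 0 := by
        intro Y hY a ha b hb h1 h2 h3
        have e := hone (hY _ (Y.add_mem ha hb) h3)
        rw [q_add, hone (hY a ha h1), hone (hY b hb h2)] at e
        linear_combination e
      have htwo : (1 : F) + 1 = 0 := by
        by_contra e
        have := hone e
        rw [add_eq_left] at this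
        exact one_ne_zero this
      have hS : ∀ a ∈ X, ∀ c ∈ R, a ≠ 0 → c ≠ 0 → Q (a + c) = 0 ∧ a + c ≠ 0 := by
        intro a ha c hc h1 h2
        refine ⟨by rw [q_add, hperp a ha c hc, hone (hXs a ha h1), hone (hRs c hc h2), add_zero, htwo],
          fun e => h1 ?_⟩
        have hac : a = -c := eq_neg_of_add_eq_zero_left e
        refine hXn a ha fun w hw => ?_
        rw [hac, ← neg_one_smul F c, b_smul_left, b_comm, hperp w hw c hc, mul_zero]
      obtain ⟨hQ₁, hs₁⟩ := hS a₁ ha₁ c₁ hc₁ hn₁ hm₁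
      obtain ⟨hQ₂, hs₂⟩ := hS a₂ ha₂ c₂ hc₂ hn₂ hm₂
      refine (hd.fine h4).resolve_left hq i _ ((D i).add_mem (hXi ha₁) (hRi hc₁)) _
        ((D i).add_mem (hXi ha₂) (hRi hc₂)) hs₁ hs₂ (fun e => hne ?_) hQ₁ hQ₂ ?_
      · refine sub_eq_zero.1 (hXn _ (X.sub_mem ha₁ ha₂) fun w hw => ?_)
        rw [show a₁ - a₂ = c₂ - c₁ by linear_combination (norm := module) e, b_sub_left, b_comm,
          hperp w hw c₂ hc₂, b_comm, hperp w hw c₁ hc₁, sub_zero]
      · rw [b_add_left, b_add_right, b_add_right, hperp a₁ ha₁ c₂ hc₂, b_comm c₁ a₂,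
          hperp a₂ ha₂ c₁ hc₁]
        linear_combination hB X hXs a₁ ha₁ a₂ ha₂ hn₁ hn₂ hn₁₂ +
          hB R hRs c₁ hc₁ c₂ hc₂ hm₁ hm₂ hm₁₂ - htwo
    obtain ⟨v, hv, hvd⟩ := exists_ne_two_values hq d
    obtain ⟨c', hc', hQc'⟩ := univ_member hRn (by omega) v hv
    exact go c' hc' (fun e => hv (by rw [← hQc', e, QuadraticMap.map_zero])) (by rw [hQc']; exact hvd)
  · have hq : 4 ≤ Nat.card F := by
      rcases hL.2 with h | h
      · exact h.2
      · omega
    obtain ⟨s, hs, hs1⟩ := exists_sq_ne_one hq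
    refine go (s • c) (R.smul_mem _ hc) (smul_ne_zero hs hc0) fun e => hs1 ?_
    rw [q_smul, hcd] at e
    exact mul_right_cancel₀ hd0 (by rw [e, one_mul])

/-- Sending the vectors of one class into members forces a permutation of the members. -/
theorem perm_of_cls (hL : Large F k) {g : Grp Q} {d : F} (hd0 : d ≠ 0)
    (h : ∀ x, Blk D x → Cls Q d x → Blk D (ap g x)) : Perm D g := by
  intro i
  obtain ⟨x0, hx0, hx0c⟩ := hd.exists_cls i hd0
  obtain ⟨a, ha⟩ := h x0 ⟨i, hx0⟩ hx0c
  refine ⟨a, ?_⟩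
  set X := Submodule.span F {x | x ∈ D i ∧ Cls Q d x ∧ ap g x ∈ D a} with hX
  set R := Submodule.span F {x | x ∈ D i ∧ Cls Q d x ∧ ap g x ∉ D a} with hR
  have hXimg : ∀ x ∈ X, ap g x ∈ D a := by
    intro x hx
    induction hx using Submodule.span_induction with
    | mem x hx => exact hx.2.2
    | zero => rw [ap_zero]; exact zero_mem _
    | add p q _ _ hp hq => rw [ap_add]; exact add_mem hp hq
    | smul c p _ hp => rw [ap_smul]; exact Submodule.smul_mem _ c hp
  have hRimg : ∀ x ∈ R, proj Q (D a) (ap g x) = 0 := by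
    intro x hx
    induction hx using Submodule.span_induction with
    | mem x hx =>
      obtain ⟨j, hj⟩ := h x ⟨i, hx.1⟩ hx.2.1
      exact hd.comp_other (fun e => hx.2.2 (by rw [← e]; exact hj)) hj
    | zero => rw [ap_zero, map_zero]
    | add p q _ _ hp hq => rw [ap_add, map_add, hp, hq, add_zero]
    | smul c p _ hp => rw [ap_smul, map_smul, hp, smul_zero]
  have hXi : X ≤ D i := Submodule.span_le.2 fun x hx => hx.1
  have hRi : R ≤ D i := Submodule.span_le.2 fun x hx => hx.1
  have hperp : ∀ x ∈ X, ∀ y ∈ R, B x y = 0 := by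
    intro x hx y hy
    rw [← ap_b g, b_comm, ← hd.b_comp a _ (hXimg x hx), hRimg y hy, b_zero_left]
  have hsup : X ⊔ R = D i := by
    refine le_antisymm (sup_le hXi hRi) ?_
    conv_lhs => rw [← hd.span_cls hL i hd0]
    refine Submodule.span_le.2 fun x hx => ?_
    by_cases hxa : ap g x ∈ D a
    · exact Submodule.mem_sup_left (Submodule.subset_span ⟨hx.1, hx.2, hxa⟩)
    · exact Submodule.mem_sup_right (Submodule.subset_span ⟨hx.1, hx.2, hxa⟩)
  have hnd : ∀ Y Z : Submodule F (ι → F), Y ≤ D i → Y ⊔ Z = D i →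
      (∀ x ∈ Y, ∀ y ∈ Z, B x y = 0) → NondegOn Q Y := by
    intro Y Z hY hYZ hp x hx hxY
    refine hd.nondeg i x (hY hx) fun w hw => ?_
    rw [← hYZ] at hw
    obtain ⟨y, hy, z, hz, rfl⟩ := Submodule.mem_sup.1 hw
    rw [b_add_right, hxY y hy, hp x hx z hz, add_zero]
  have hXn := hnd X R hXi hsup hperp
  have hRn := hnd R X hRi (by rw [sup_comm]; exact hsup) fun x hx y hy => by
    rw [b_comm]; exact hperp y hy x hx
  have hR0 : R = ⊥ := by
    by_contra hR0
    have hX0 : X ≠ ⊥ := fun e => by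
      have hm : x0 ∈ X := Submodule.subset_span ⟨hx0, hx0c, ha⟩
      rw [e, Submodule.mem_bot] at hm
      exact hx0c.1 (by rw [hm, QuadraticMap.map_zero])
    have hdim : Module.finrank F X + Module.finrank F R = k := by
      have h1 := Submodule.finrank_sup_add_finrank_inf_eq X R
      have e : X ⊓ R = ⊥ := (Submodule.eq_bot_iff _).2 fun x hx =>
        hXn x hx.1 fun y hy => by rw [b_comm]; exact hperp y hy x hx.2
      rw [hsup, e, finrank_bot, hd.rank] at h1
      omega
    have h3 := hL.1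
    obtain ⟨p, hp, c, hc, hp0, hc0, hpc⟩ :
        ∃ p ∈ X, ∃ c ∈ R, p ≠ 0 ∧ c ≠ 0 ∧ Cls Q d (p + c) := by
      by_cases h2 : 2 ≤ Module.finrank F X
      · exact hd.exists_split_vec hL hXi hRi hXn hRn hperp hR0 hdim h2 hd0
      · obtain ⟨c, hc, p, hp, hc0, hp0, hpc⟩ := hd.exists_split_vec hL hRi hXi hRn hXn
          (fun x hx y hy => by rw [b_comm]; exact hperp y hy x hx) hX0 (by omega) (by omega) hd0
        exact ⟨p, hp, c, hc, hp0, hc0, by rwa [add_comm] at hpc⟩
    obtain ⟨j, hj⟩ := h (p + c) ⟨i, (D i).add_mem (hXi hp) (hRi hc)⟩ hpc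
    have hgp : ap g p ≠ 0 := fun e => hp0 (ap_inj g (by rw [e, ap_zero]))
    have hcomp : proj Q (D a) (ap g (p + c)) = ap g p := by
      rw [ap_add, map_add, hRimg c hc, add_zero, hd.comp_self (hXimg p hp)]
    have hja : j = a := by
      by_contra hne
      exact hgp (hcomp ▸ hd.comp_other hne hj)
    subst hja
    rw [ap_add] at hj
    have hgc : ap g c ∈ D j := by
      rw [← add_sub_cancel_left (ap g p) (ap g c)]
      exact (D j).sub_mem hj (hXimg p hp)
    exact hc0 (ap_inj g (by rw [ap_zero, ← hd.comp_self hgc, hRimg c hc]))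
  intro x hx
  rw [← hsup, hR0, sup_bot_eq] at hx
  exact hXimg x hx

theorem proj_ap {g : Grp Q} (hg : ∀ l, ∀ x ∈ D l, ap g x ∈ D l) (l : Fin t) (x : ι → F) :
    proj Q (D l) (ap g x) = ap g (proj Q (D l) x) := by
  conv_lhs => rw [← hd.sum_comp x]
  have e : ap g (∑ j, proj Q (D j) x) = ∑ j, ap g (proj Q (D j) x) :=
    map_sum (Matrix.mulVecLin ((g : GL ι F) : Matrix ι ι F)) _ _
  rw [e, map_sum, Finset.sum_eq_single l
    (fun j _ hj => hd.comp_other hj (hg j _ (hd.comp_mem j x)))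
    (fun h => absurd (Finset.mem_univ l) h), hd.comp_self (hg l _ (hd.comp_mem l x))]

/-- Two reflections whose product stabilises each member. -/
theorem pair_supp_of_fix {u w : ι → F} {r s : Grp Q} (hr : IsRefl u r) (hs : IsRefl w s)
    (hind : ∀ c : F, u ≠ c • w) (hfix : ∀ l, ∀ x ∈ D l, ap (r * s) x ∈ D l) :
    (∀ a b c, a ≠ b → a ≠ c → b ≠ c →
      proj Q (D a) u = 0 ∨ proj Q (D b) u = 0 ∨ proj Q (D c) u = 0) ∧ (B u w ≠ 0 → Blk D u) := by
  classical
  set P := Submodule.span F ({u, w} : Set (ι → F)) with hP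
  have hu : u ∈ P := Submodule.subset_span (Set.mem_insert _ _)
  have hw : w ∈ P := Submodule.subset_span (Set.mem_insert_of_mem _ rfl)
  have hPdim : Module.finrank F P ≤ 2 := by
    have h := finrank_span_finset_le_card (R := F) ({u, w} : Finset (ι → F))
    rw [Set.finrank, Finset.coe_pair] at h
    exact h.trans Finset.card_le_two
  have hres : ∀ x, ap (r * s) x - x ∈ P := by
    intro x
    rw [ap_mul, hr.2, hs.2 x]
    have e : ∀ (p q : ι → F), x - p - q - x = -(p + q) := fun p q => by abel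
    rw [e]
    exact neg_mem (add_mem (Submodule.smul_mem _ _ hw) (Submodule.smul_mem _ _ hu))
  have hwu : u ∉ Submodule.span F ({w} : Set (ι → F)) := fun h => by
    obtain ⟨c, hc⟩ := Submodule.mem_span_singleton.1 h
    exact hind c hc.symm
  obtain ⟨x0, hx0, hux0⟩ := exists_orth_one hd.nd hwu
  have hgx0 : ap (r * s) x0 = x0 - (Q u)⁻¹ • u := by
    rw [ap_mul, refl_fix hs (hx0 w (Submodule.mem_span_singleton_self w)), hr.2, hux0, mul_one]
  have hcomp : ∀ l, proj Q (D l) u =
      (Q u) • (proj Q (D l) x0 - ap (r * s) (proj Q (D l) x0)) := by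
    intro l
    rw [← hd.proj_ap hfix l x0, hgx0, map_sub, map_smul, sub_sub_cancel, smul_smul,
      mul_inv_cancel₀ hr.1, one_smul]
  have hin : ∀ l, proj Q (D l) u ∈ P := fun l => by
    rw [hcomp l, ← neg_sub]
    exact Submodule.smul_mem _ _ (neg_mem (hres _))
  have three : ∀ a b c, a ≠ b → a ≠ c → b ≠ c →
      proj Q (D a) u = 0 ∨ proj Q (D b) u = 0 ∨ proj Q (D c) u = 0 := by
    intro a b c hab hac hbc
    by_contra hh
    push Not at hh
    obtain ⟨ha, hb, hc⟩ := hh
    let v : Fin 3 → P := ![⟨_, hin a⟩, ⟨_, hin b⟩, ⟨_, hin c⟩]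
    have hli : LinearIndependent F v := by
      rw [Fintype.linearIndependent_iff]
      intro g hg0
      rw [Fin.sum_univ_three] at hg0
      have h0 : g 0 • proj Q (D a) u + g 1 • proj Q (D b) u + g 2 • proj Q (D c) u = 0 :=
        congrArg Subtype.val hg0
      have ea := congrArg (proj Q (D a)) h0
      have eb := congrArg (proj Q (D b)) h0
      have ec := congrArg (proj Q (D c)) h0
      rw [map_add, map_add, map_smul, map_smul, map_smul, hd.comp_self (hd.comp_mem a u),
        hd.comp_other hab.symm (hd.comp_mem b u), hd.comp_other hac.symm (hd.comp_mem c u),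
        map_zero, smul_zero, smul_zero, add_zero, add_zero] at ea
      rw [map_add, map_add, map_smul, map_smul, map_smul, hd.comp_self (hd.comp_mem b u),
        hd.comp_other hab (hd.comp_mem a u), hd.comp_other hbc.symm (hd.comp_mem c u),
        map_zero, smul_zero, smul_zero, zero_add, add_zero] at eb
      rw [map_add, map_add, map_smul, map_smul, map_smul, hd.comp_self (hd.comp_mem c u),
        hd.comp_other hac (hd.comp_mem a u), hd.comp_other hbc (hd.comp_mem b u),
        map_zero, smul_zero, smul_zero, zero_add, zero_add] at ec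
      intro l
      fin_cases l
      · exact (smul_eq_zero.1 ea).resolve_right ha
      · exact (smul_eq_zero.1 eb).resolve_right hb
      · exact (smul_eq_zero.1 ec).resolve_right hc
    have := hli.fintype_card_le_finrank
    rw [Fintype.card_fin] at this
    omega
  refine ⟨three, fun hβ => ?_⟩
  rw [hd.blk_iff]
  by_contra hh
  push Not at hh
  obtain ⟨a, b, hab, ha, hb⟩ := hh
  -- in the member of a component the product negates it
  have hneg : ∀ a b, a ≠ b → proj Q (D a) u ≠ 0 → proj Q (D b) u ≠ 0 →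
      ap (r * s) (proj Q (D a) u) = -proj Q (D a) u := by
    intro a b hab ha hb
    set p := proj Q (D a) u with hp
    have hpP : p ∈ P := hin a
    have hlam : ∀ x ∈ D a, ∃ c : F, ap (r * s) x = x + c • p := by
      intro x hx
      have hPeq : P ≤ Submodule.span F ({p, proj Q (D b) u} : Set (ι → F)) := by
        refine (Submodule.eq_of_le_of_finrank_le ?_ ?_).ge
        · refine Submodule.span_le.2 fun y hy => ?_
          rcases Set.mem_insert_iff.1 hy with rfl | hy
          · exact hpP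
          · rw [Set.mem_singleton_iff.1 hy]; exact hin b
        · have hli : LinearIndependent F ![p, proj Q (D b) u] := by
            rw [LinearIndependent.pair_iff]
            intro c e h0
            have ea := congrArg (proj Q (D a)) h0
            have eb := congrArg (proj Q (D b)) h0
            rw [map_add, map_smul, map_smul, hd.comp_self (hd.comp_mem a u),
              hd.comp_other hab.symm (hd.comp_mem b u), map_zero, smul_zero, add_zero] at ea
            rw [map_add, map_smul, map_smul, hd.comp_self (hd.comp_mem b u),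
              hd.comp_other hab (hd.comp_mem a u), map_zero, smul_zero, zero_add] at eb
            exact ⟨(smul_eq_zero.1 ea).resolve_right ha, (smul_eq_zero.1 eb).resolve_right hb⟩
          have h2 := finrank_span_eq_card hli
          rw [Fintype.card_fin, Matrix.range_cons, Matrix.range_cons, Matrix.range_empty,
            Set.union_empty, Set.union_singleton, Set.pair_comm] at h2
          omega
      obtain ⟨c, e, hce⟩ := Submodule.mem_span_pair.1 (hPeq (hres x))
      have hmem : ap (r * s) x - x ∈ D a := (D a).sub_mem (hfix a x hx) hx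
      have hh' := hd.comp_self hmem
      rw [← hce, map_add, map_smul, map_smul, hd.comp_self (hd.comp_mem a u),
        hd.comp_other hab.symm (hd.comp_mem b u), smul_zero, add_zero] at hh'
      exact ⟨c, by rw [← sub_eq_iff_eq_add', ← hce]; exact hh'.symm⟩
    have hiso : ∀ x (c : F), ap (r * s) x = x + c • p → c = 0 ∨ B x p + c * Q p = 0 := by
      intro x c hc
      have e := ap_q (r * s) x
      rw [hc, q_add, q_smul, b_smul_right] at e
      exact mul_eq_zero.1 (by linear_combination e)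
    obtain ⟨c0, hc0⟩ := hlam _ (hd.comp_mem a x0)
    have hc0' : c0 ≠ 0 := fun e => ha (by
      rw [hp, hcomp a, hc0, e, zero_smul, add_zero, sub_self, smul_zero])
    have hQp : Q p ≠ 0 := by
      intro hQp
      obtain ⟨y, hy, hyp⟩ := exists_partner_val (hd.nondeg a) (hd.comp_mem a u) ha 1
      rw [b_comm] at hyp
      obtain ⟨c1, hc1⟩ := hlam y hy
      have hy1 : c1 = 0 := (hiso y c1 hc1).resolve_right (by
        rw [hyp, hQp, mul_zero, add_zero]; exact one_ne_zero)
      have hx1 : B (proj Q (D a) x0) p = 0 := by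
        have h := (hiso _ c0 hc0).resolve_left hc0'
        rwa [hQp, mul_zero, add_zero] at h
      have hsum : ap (r * s) (proj Q (D a) x0 + y) = (proj Q (D a) x0 + y) + c0 • p := by
        rw [ap_add, hc0, hc1, hy1, zero_smul, add_zero]; abel
      refine hc0' ((hiso _ c0 hsum).resolve_right ?_)
      rw [b_add_left, hx1, hyp, hQp, mul_zero, zero_add, add_zero]
      exact one_ne_zero
    obtain ⟨c, hc⟩ := hlam p (hd.comp_mem a u)
    by_cases hc' : c = 0
    · have hfixp : ap (r * s) p = p := by rw [hc, hc', zero_smul, add_zero]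
      have e := ap_b (r * s) (proj Q (D a) x0) p
      rw [hc0, hfixp, b_add_left, b_smul_left, add_eq_left] at e
      have h2 : (2 : F) = 0 := by
        have := (mul_eq_zero.1 e).resolve_left hc0'
        rw [b_self] at this
        exact (mul_eq_zero.1 this).resolve_right hQp
      rw [hfixp, eq_neg_iff_add_eq_zero, ← two_smul F, h2, zero_smul]
    · have h := (hiso p c hc).resolve_left hc'
      rw [b_self, ← add_mul] at h
      have hc2 : c = -2 := by linear_combination (mul_eq_zero.1 h).resolve_right hQp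
      rw [hc, hc2]
      module
  have hsum : u = proj Q (D a) u + proj Q (D b) u := by
    conv_lhs => rw [← hd.sum_comp u]
    rw [← Finset.sum_pair (f := fun i => proj Q (D i) u) hab]
    refine (Finset.sum_subset (Finset.subset_univ _) fun l _ hl => ?_).symm
    simp only [Finset.mem_insert, Finset.mem_singleton, not_or] at hl
    exact ((three a b l hab (Ne.symm hl.1) (Ne.symm hl.2)).resolve_left ha).resolve_left hb
  have hgu : ap (r * s) u = -u := by
    conv_lhs => rw [hsum]
    rw [ap_add, hneg a b hab ha hb, hneg b a hab.symm hb ha, ← neg_add, ← hsum]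
  have hsu : ap s u = u := by
    have e := congrArg (ap r) hgu
    rw [ap_mul, ← ap_mul r r, refl_mul_self hr, ap_one] at e
    rw [e, show ap r (-u) = -ap r u from by rw [← neg_one_smul F u, ap_smul, neg_one_smul],
      refl_self hr, neg_neg]
  rw [hs.2, sub_eq_self, smul_eq_zero, mul_eq_zero, inv_eq_zero] at hsu
  rcases hsu with (h | h) | h
  · exact hs.1 h
  · exact hβ (by rw [b_comm]; exact h)
  · exact hs.1 (by rw [h, QuadraticMap.map_zero])

/-- Two reflections whose product permutes the members. -/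
theorem pair_supp (h3 : 3 ≤ k) {u w : ι → F} {r s : Grp Q} (hr : IsRefl u r) (hs : IsRefl w s)
    (hind : ∀ c : F, u ≠ c • w) (hg : Perm D (r * s)) :
    (∀ a b c, a ≠ b → a ≠ c → b ≠ c →
      proj Q (D a) u = 0 ∨ proj Q (D b) u = 0 ∨ proj Q (D c) u = 0) ∧ (B u w ≠ 0 → Blk D u) := by
  classical
  set P := Submodule.span F ({u, w} : Set (ι → F)) with hP
  have hu : u ∈ P := Submodule.subset_span (Set.mem_insert _ _)
  have hw : w ∈ P := Submodule.subset_span (Set.mem_insert_of_mem _ rfl)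
  have hPdim : Module.finrank F P ≤ 2 := by
    have h := finrank_span_finset_le_card (R := F) ({u, w} : Finset (ι → F))
    rw [Set.finrank, Finset.coe_pair] at h
    exact h.trans Finset.card_le_two
  have hres : ∀ x, ap (r * s) x - x ∈ P := by
    intro x
    rw [ap_mul, hr.2, hs.2 x]
    have e : ∀ (p q : ι → F), x - p - q - x = -(p + q) := fun p q => by abel
    rw [e]
    exact neg_mem (add_mem (Submodule.smul_mem _ _ hw) (Submodule.smul_mem _ _ hu))
  -- no member moves
  have hfix : ∀ l, ∀ x ∈ D l, ap (r * s) x ∈ D l := by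
    intro l
    obtain ⟨j, hj⟩ := hg l
    by_cases hjl : j = l
    · exact hjl ▸ hj
    exfalso
    let φ : D l →ₗ[F] P := LinearMap.codRestrict P
      ((Matrix.toLin' ((((r * s : Grp Q)) : GL ι F) : Matrix ι ι F) - LinearMap.id).comp
        (D l).subtype) fun x => hres x
    have hinj : Function.Injective φ := by
      refine (injective_iff_map_eq_zero φ).2 fun x hx => ?_
      have h' : ap (r * s) (x : ι → F) - (x : ι → F) = 0 := congrArg Subtype.val hx
      have hxj : (x : ι → F) ∈ D j := by rw [← sub_eq_zero.1 h']; exact hj x x.2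
      by_contra hx0
      exact hjl (hd.eq_of_mem (fun e => hx0 (Subtype.ext e)) x.2 hxj).symm
    have := LinearMap.finrank_le_finrank_of_injective hinj
    rw [hd.rank] at this
    omega
  exact hd.pair_supp_of_fix hr hs hind hfix

variable {M : Subgroup (Grp Q)}

theorem rel_blk (hM : ∀ g, g ∈ Cfsg.Omega F ⇑Q → Perm D g → g ∈ M) {x y : ι → F} (hx : Blk D x)
    (hy : Blk D y) (hQx : Q x ≠ 0) (hQy : Q y ≠ 0) (h : IsSquare (Q x * Q y)) : Rel M x y := by
  refine ⟨hQx, hQy, fun r s hr hs => hM _ ?_ ?_⟩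
  · have := QuotientGroup.eq.1 (refl_coset hd.nd hd.dim hr hs h)
    rwa [refl_inv' hr] at this
  · obtain ⟨i, hi⟩ := hx
    obtain ⟨j, hj⟩ := hy
    exact hd.perm_refl_pair hi hj hr hs

/-- An anisotropic vector of a member orthogonal to a given one. -/
theorem exists_aniso_perp (hL : Large F k) (i : Fin t) {a : ι → F} (ha : a ∈ D i) :
    ∃ x ∈ D i, Q x ≠ 0 ∧ B a x = 0 := by
  have h3 := hL.1
  by_cases ha0 : a = 0
  · obtain ⟨x, hx, hc⟩ := hd.exists_cls i (one_ne_zero (α := F))
    exact ⟨x, hx, hc.1, by rw [ha0, b_zero_left]⟩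
  by_contra hc
  push Not at hc
  obtain ⟨f, hf, haf⟩ := exists_partner_val (hd.nondeg i) ha ha0 1
  set R := relOrth Q (D i) (Submodule.span F {a}) with hR
  have hR0 : ∀ x ∈ R, Q x = 0 := fun x hx => by
    by_contra h
    exact hc x (mem_relOrth_one.1 hx).1 h (mem_relOrth_one.1 hx).2
  have hline : R ≤ Submodule.span F {a} := by
    intro x hx
    refine Submodule.mem_span_singleton.2 ⟨B x f, ?_⟩
    rw [← sub_eq_zero]
    have hxR := mem_relOrth_one.1 hx
    refine hd.nondeg i _ ((D i).sub_mem ((D i).smul_mem _ ha) hxR.1) fun w hw => ?_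
    have hw' : w - B a w • f ∈ R := mem_relOrth_one.2 ⟨(D i).sub_mem hw ((D i).smul_mem _ hf), by
      rw [b_sub_right, b_smul_right, haf, mul_one, sub_self]⟩
    have h0 : B (w - B a w • f) x = 0 := le_orth_of_singular hR0 hx _ hw'
    rw [b_sub_left, b_smul_left, b_comm w x, b_comm f x] at h0
    rw [b_sub_left, b_smul_left]
    linear_combination -h0
  have h1 := finrank_relOrth_one (W := D i) hd.nd a
  have h2 := (Submodule.finrank_mono hline).trans (finrank_span_singleton ha0).le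
  rw [← hR, hd.rank] at h1
  omega

/-- Only vectors inside members related: the overgroup permutes the members. -/
theorem perm_of_not_mix (hL : Large F k) (ht : 3 ≤ t)
    (hM : ∀ g, g ∈ Cfsg.Omega F ⇑Q → Perm D g → g ∈ M)
    (hno : ∀ d, d ≠ 0 → ∀ x, Mix M D d x → Blk D x) {g : Grp Q} (hg : g ∈ M) : Perm D g := by
  classical
  have hfixed : ∀ c ∈ M, ∀ b, Blk D b → Q b ≠ 0 → ap c b = b → Perm D c := by
    intro c hc b hb hQb hcb
    refine hd.perm_of_cls hL hQb fun x hx hxc => hno _ hQb _ ⟨cls_ap hxc c, b, hb, cls_self hQb, ?_⟩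
    have := rel_conj hc (hd.rel_blk hM hx hb hxc.1 hQb (by rw [mul_comm]; exact hxc.2))
    rwa [hcb] at this
  by_contra hgP
  have hmoved : ∀ g ∈ M, ¬ Perm D g → ∀ z, Blk D z → Q z ≠ 0 → ¬ Blk D (ap g z) := by
    intro g hg hgP z hz hQz hgz
    refine hgP (hd.perm_of_cls hL hQz fun x hx hxc => hno _ hQz _ ⟨cls_ap hxc g, _, hgz,
      cls_ap (cls_self hQz) g, ?_⟩)
    exact rel_conj hg (hd.rel_blk hM hx hz hxc.1 hQz (by rw [mul_comm]; exact hxc.2))
  have hginv : ¬ Perm D g⁻¹ := by
    intro h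
    apply hgP
    rw [hd.perm_iff] at h ⊢
    have := Subgroup.inv_mem _ h
    rwa [← Subgroup.coe_inv, inv_inv] at this
  -- conjugating a pair fixing the image
  have hconj : ∀ g ∈ M, ∀ z, Blk D z → Q z ≠ 0 → ∀ x y (r s : Grp Q), Blk D x → Blk D y →
      IsSquare (Q x * Q y) → IsRefl x r → IsRefl y s → B x (ap g z) = 0 → B y (ap g z) = 0 →
      ∃ r' s' : Grp Q, IsRefl (ap g⁻¹ x) r' ∧ IsRefl (ap g⁻¹ y) s' ∧ Perm D (r' * s') := by
    intro g hg z hz hQz x y r s hx hy hsq hr hs hxz hyz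
    refine ⟨_, _, refl_conj hr g⁻¹, refl_conj hs g⁻¹, hfixed _ ?_ z hz hQz ?_⟩
    · rw [show g⁻¹ * r * g⁻¹⁻¹ * (g⁻¹ * s * g⁻¹⁻¹) = g⁻¹ * (r * s) * g by group]
      exact M.mul_mem (M.mul_mem (M.inv_mem hg)
        ((hd.rel_blk hM hx hy hr.1 hs.1 hsq).2.2 r s hr hs)) hg
    · rw [show g⁻¹ * r * g⁻¹⁻¹ * (g⁻¹ * s * g⁻¹⁻¹) = g⁻¹ * (r * s) * g by group, ap_mul, ap_mul,
        ap_mul, refl_fix hs hyz, refl_fix hr hxz, ap_inv_ap]
  -- no component vanishes
  have hfull : ∀ g ∈ M, ¬ Perm D g → ¬ Perm D g⁻¹ → ∀ z, Blk D z → Q z ≠ 0 → ∀ c,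
      proj Q (D c) (ap g z) ≠ 0 := by
    intro g hg hgP hgP' z hz hQz c hc
    obtain ⟨x, hx, y, hy, hQx, hQy, hsq, hβ, hind⟩ :=
      exists_mate hd.nd (hd.nondeg c) (by rw [hd.rank]; exact hL.1) (by rw [hd.rank]; exact hL.2)
    obtain ⟨r, hr⟩ := exists_refl hd.nd hQy
    obtain ⟨s, hs⟩ := exists_refl hd.nd hQx
    have hperp : ∀ v ∈ D c, B v (ap g z) = 0 := fun v hv => by
      rw [b_comm, ← hd.b_comp c _ hv, hc, b_zero_left]
    obtain ⟨r', s', hr', hs', hP⟩ := hconj g hg z hz hQz y x r s ⟨c, hy⟩ ⟨c, hx⟩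
      (by rw [mul_comm]; exact hsq) hr hs (hperp y hy) (hperp x hx)
    refine hmoved g⁻¹ (M.inv_mem hg) hgP' y ⟨c, hy⟩ hQy ((hd.pair_supp hL.1 hr' hs' ?_ hP).2 ?_)
    · exact fun e he => hind e (ap_inj g⁻¹ (he.trans (ap_smul _ _ _).symm))
    · rw [ap_b, b_comm]; exact hβ
  obtain ⟨z, hz, hzc⟩ := hd.exists_cls ⟨0, by omega⟩ (one_ne_zero (α := F))
  set a : Fin 3 → Fin t := fun j => ⟨j, by omega⟩ with ha
  have hainj : ∀ i j, i ≠ j → a i ≠ a j := fun i j h e => h (Fin.ext (congrArg Fin.val e : _))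
  choose x hx hQx hxz using fun j => hd.exists_aniso_perp hL (a j) (hd.comp_mem (a j) (ap g z))
  obtain ⟨i, j, hij, hsq⟩ : ∃ i j, i ≠ j ∧ IsSquare (Q (x i) * Q (x j)) := by
    by_contra hh
    push Not at hh
    have h01 := hh 0 1 (by decide)
    have h02 := hh 0 2 (by decide)
    have h12 := hh 1 2 (by decide)
    rw [isSquare_mul_iff (hQx _)] at h01 h02 h12
    simp only [hQx, false_or] at h01 h02 h12
    tauto
  obtain ⟨r, hr⟩ := exists_refl hd.nd (hQx i)
  obtain ⟨s, hs⟩ := exists_refl hd.nd (hQx j)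
  have hperp : ∀ l, B (x l) (ap g z) = 0 := fun l => by
    rw [b_comm, ← hd.b_comp (a l) _ (hx l)]; exact hxz l
  obtain ⟨r', s', hr', hs', hP⟩ := hconj g hg z ⟨_, hz⟩ hzc.1 (x i) (x j) r s ⟨_, hx i⟩ ⟨_, hx j⟩
    hsq hr hs (hperp i) (hperp j)
  have h3 := (hd.pair_supp hL.1 hr' hs' (fun e he => ?_) hP).1 (a 0) (a 1) (a 2) (hainj 0 1 (by decide))
    (hainj 0 2 (by decide)) (hainj 1 2 (by decide))
  · have hne := hfull g⁻¹ (M.inv_mem hg) hginv (by rwa [inv_inv]) (x i) ⟨_, hx i⟩ (hQx i)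
    rcases h3 with h | h | h <;> exact hne _ h
  · have hxe : x i = e • x j := ap_inj g⁻¹ (he.trans (ap_smul _ _ _).symm)
    have h0 := hd.comp_other (hainj j i hij.symm) ((D (a j)).smul_mem e (hx j))
    rw [← hxe, hd.comp_self (hx i)] at h0
    exact hQx i (by rw [h0, QuadraticMap.map_zero])

end Dec

end CfsgLib.Orth.DecompMax
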