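import Cfsg.Agent.Lib.Classical.OrthDecompMax.Setup

set_option autoImplicit false
set_option linter.unusedSectionVars false

/-!
Vectors of prescribed norm and product in one member, and the isometries of `Ω` moving one member.
-/

namespace CfsgLib.Orth.DecompMax

open Matrix

variable {F : Type*} [Field F] [Finite F] {ι : Type} [Fintype ι] [DecidableEq ι]
variable {Q : QuadraticForm F (ι → F)}

local notation "B" => QuadraticMap.polar (DFunLike.coe Q)

section sub

variable {W : Submodule F (ι → F)}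

theorem finrank_relOrth_one (hB : Nondeg Q) (a : ι → F) :
    Module.finrank F W ≤ Module.finrank F (relOrth Q W (Submodule.span F {a})) + 1 := by
  have h := finrank_relOrth hB W (Submodule.span F {a})
  have h2 : Module.finrank F (Submodule.span F ({a} : Set (ι → F))) ≤ 1 := by
    by_cases e : a = 0
    · rw [e, Submodule.span_zero_singleton, finrank_bot]; omega
    · rw [finrank_span_singleton e]
  omega

theorem mem_relOrth_one {a x : ι → F} :
    x ∈ relOrth Q W (Submodule.span F {a}) ↔ x ∈ W ∧ B a x = 0 := by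
  constructor
  · exact fun h => ⟨h.1, h.2 a (Submodule.mem_span_singleton_self a)⟩
  · rintro ⟨h1, h2⟩
    exact ⟨h1, mem_orth_span.2 fun s hs => by rw [Set.mem_singleton_iff.1 hs]; exact h2⟩

theorem exists_partner_val (hW : NondegOn Q W) {a : ι → F} (ha : a ∈ W) (ha0 : a ≠ 0) (β : F) :
    ∃ f ∈ W, B a f = β := by
  by_contra hc
  push Not at hc
  refine ha0 (hW a ha fun y hy => ?_)
  by_contra h
  exact hc ((β / B a y) • y) (W.smul_mem _ hy) (by rw [b_smul_right, div_mul_cancel₀ _ h])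

theorem univ_member (hW : NondegOn Q W) (h : 2 ≤ Module.finrank F W) : Univ Q W := by
  refine univ_of_dim ?_
  rw [(Submodule.eq_bot_iff (W ⊓ Orth.orth Q W)).2 fun x hx => nondeg_inf hW hx.1 hx.2, finrank_bot]
  omega

/-- The orthogonal of a vector in a member is universal. -/
theorem univ_perp (hB : Nondeg Q) (hW : NondegOn Q W) (h3 : 3 ≤ Module.finrank F W) {a : ι → F}
    (ha : a ∈ W) (ha0 : a ≠ 0)
    (h : ((2 : F) ≠ 0 ∧ Q a ≠ 0) ∨ 4 ≤ Module.finrank F W) :
    Univ Q (relOrth Q W (Submodule.span F {a})) := by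
  refine univ_of_dim ?_
  obtain ⟨f, hf, haf⟩ := exists_partner_val hW ha ha0 1
  set R := relOrth Q W (Submodule.span F {a}) with hR
  have hrad : ∀ x ∈ R ⊓ Orth.orth Q R, x = B x f • a := by
    intro x hx
    have hxR := mem_relOrth_one.1 hx.1
    rw [← sub_eq_zero]
    refine hW _ (W.sub_mem hxR.1 (W.smul_mem _ ha)) fun w hw => ?_
    have hw' : w - B a w • f ∈ R := mem_relOrth_one.2 ⟨W.sub_mem hw (W.smul_mem _ hf), by
      rw [b_sub_right, b_smul_right, haf, mul_one, sub_self]⟩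
    have h0 : B (w - B a w • f) x = 0 := hx.2 _ hw'
    rw [b_sub_left, b_smul_left, b_comm w x, b_comm f x] at h0
    rw [b_sub_left, b_smul_left]
    linear_combination h0
  have h1 := finrank_relOrth_one (W := W) hB a
  rw [← hR] at h1
  by_cases hq : (2 : F) ≠ 0 ∧ Q a ≠ 0
  · have e : R ⊓ Orth.orth Q R = ⊥ := (Submodule.eq_bot_iff _).2 fun x hx => by
      have h2 := hrad x hx
      have h3 := (mem_relOrth_one.1 hx.1).2
      rw [h2, b_smul_right, b_self] at h3
      rw [h2, (mul_eq_zero.1 h3).resolve_right (mul_ne_zero hq.1 hq.2), zero_smul]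
    rw [e, finrank_bot]
    omega
  · have h4 := h.resolve_left hq
    have h2 : Module.finrank F ↥(R ⊓ Orth.orth Q R) ≤ 1 := by
      refine (Submodule.finrank_mono (t := Submodule.span F {a}) fun x hx => ?_).trans
        (finrank_span_singleton ha0).le
      rw [hrad x hx]
      exact Submodule.smul_mem _ _ (Submodule.mem_span_singleton_self a)
    omega

/-- A vector of prescribed norm and product with a given one. -/
theorem exists_meet (hB : Nondeg Q) (hW : NondegOn Q W) (h3 : 3 ≤ Module.finrank F W) {a : ι → F}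
    (ha : a ∈ W) (ha0 : a ≠ 0) (E β : F)
    (h : ((2 : F) ≠ 0 ∧ Q a ≠ 0) ∨ (Q a = 0 ∧ β ≠ 0) ∨ 4 ≤ Module.finrank F W) :
    ∃ z ∈ W, Q z = E ∧ B a z = β := by
  classical
  -- adding a vector orthogonal to what is fixed
  have fill : ∀ (p : ι → F) (R : Submodule F (ι → F)), p ∈ W → R ≤ W → Univ Q R →
      (∀ x ∈ R, B a x = 0 ∧ B p x = 0) → B a p = β → ∃ z ∈ W, Q z = E ∧ B a z = β := by
    intro p R hp hRW hR hx hap
    by_cases e : E - Q p = 0
    · exact ⟨p, hp, (sub_eq_zero.1 e).symm, hap⟩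
    · obtain ⟨n, hn, hQn⟩ := hR _ e
      exact ⟨p + n, W.add_mem hp (hRW hn),
        by rw [q_add, hQn, (hx n hn).2, add_zero, add_sub_cancel],
        by rw [b_add_right, hap, (hx n hn).1, add_zero]⟩
  by_cases hA : (2 : F) ≠ 0 ∧ Q a ≠ 0
  · refine fill ((β / (2 * Q a)) • a) (relOrth Q W (Submodule.span F {a})) (W.smul_mem _ ha)
      (fun x hx => hx.1) (univ_perp hB hW h3 ha ha0 (Or.inl hA)) (fun x hx => ?_) ?_
    · exact ⟨(mem_relOrth_one.1 hx).2, by rw [b_smul_left, (mem_relOrth_one.1 hx).2, mul_zero]⟩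
    · rw [b_smul_right, b_self, div_mul_cancel₀ _ (mul_ne_zero hA.1 hA.2)]
  have haa : B a a = 0 := by
    rw [b_self]
    by_cases e : (2 : F) = 0
    · rw [e, zero_mul]
    · rw [not_not.1 (fun e' => hA ⟨e, e'⟩), mul_zero]
  by_cases hβ : β = 0
  · have h4 : 4 ≤ Module.finrank F W := by
      rcases h with h | h | h
      · exact absurd h hA
      · exact absurd hβ h.2
      · exact h
    refine fill 0 (relOrth Q W (Submodule.span F {a})) W.zero_mem (fun x hx => hx.1)
      (univ_perp hB hW h3 ha ha0 (Or.inr h4)) (fun x hx => ⟨(mem_relOrth_one.1 hx).2, b_zero_left x⟩)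
      (by rw [b_zero_right, hβ])
  by_cases hQa : Q a = 0
  · obtain ⟨f, hf, haf⟩ := exists_partner_val hW ha ha0 β
    refine ⟨f + ((E - Q f) / β) • a, W.add_mem hf (W.smul_mem _ ha), ?_, ?_⟩
    · rw [q_add, q_smul, hQa, b_smul_right, b_comm f a, haf, div_mul_cancel₀ _ hβ]; ring
    · rw [b_add_right, b_smul_right, haa, haf, mul_zero, add_zero]
  have h4 : 4 ≤ Module.finrank F W := by
    rcases h with h | h | h
    · exact absurd h hA
    · exact absurd h.1 hQa
    · exact h
  obtain ⟨f, hf, haf⟩ := exists_partner_val hW ha ha0 1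
  set R := relOrth Q W (Submodule.span F ({a, f} : Set (ι → F))) with hR
  have hmem : ∀ x, x ∈ R ↔ x ∈ W ∧ B a x = 0 ∧ B f x = 0 := by
    intro x
    constructor
    · exact fun hx => ⟨hx.1, hx.2 a (Submodule.subset_span (Set.mem_insert _ _)),
        hx.2 f (Submodule.subset_span (Set.mem_insert_of_mem _ rfl))⟩
    · rintro ⟨h1, h2, h3⟩
      refine ⟨h1, mem_orth_span.2 fun s hs => ?_⟩
      rcases Set.mem_insert_iff.1 hs with rfl | hs
      · exact h2
      · rw [Set.mem_singleton_iff.1 hs]; exact h3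
  have hbot : R ⊓ Orth.orth Q R = ⊥ := by
    refine (Submodule.eq_bot_iff _).2 fun x hx => ?_
    obtain ⟨hxW, hxa, hxf⟩ := (hmem x).1 hx.1
    refine hW x hxW fun w hw => ?_
    have hw' : w - B a w • f - (B f w - B a w * B f f) • a ∈ R := (hmem _).2
      ⟨W.sub_mem (W.sub_mem hw (W.smul_mem _ hf)) (W.smul_mem _ ha), by
        rw [b_sub_right, b_sub_right, b_smul_right, b_smul_right, haf, haa]; ring, by
        rw [b_sub_right, b_sub_right, b_smul_right, b_smul_right, b_comm f a, haf]; ring⟩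
    have h0 : B (w - B a w • f - (B f w - B a w * B f f) • a) x = 0 := hx.2 _ hw'
    rw [b_sub_left, b_sub_left, b_smul_left, b_smul_left, hxa, hxf, b_comm w x] at h0
    linear_combination h0
  have hU : Univ Q R := univ_of_dim (by
    have h5 := finrank_relOrth hB W (Submodule.span F ({a, f} : Set (ι → F)))
    have h6 : Module.finrank F (Submodule.span F ({a, f} : Set (ι → F))) ≤ 2 := by
      have h := finrank_span_finset_le_card (R := F) ({a, f} : Finset (ι → F))
      rw [Set.finrank, Finset.coe_pair] at h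
      exact h.trans Finset.card_le_two
    rw [hbot, finrank_bot, hR]
    omega)
  refine fill (β • f) R (W.smul_mem _ hf) (fun x hx => hx.1) hU (fun x hx => ?_)
    (by rw [b_smul_right, haf, mul_one])
  exact ⟨((hmem x).1 hx).2.1, by rw [b_smul_left, ((hmem x).1 hx).2.2, mul_zero]⟩

theorem exists_singular_perp_in (hB : Nondeg Q) (h4 : 4 ≤ Module.finrank F W) (a : ι → F) :
    ∃ s ∈ W, s ≠ 0 ∧ Q s = 0 ∧ B a s = 0 := by
  have := finrank_relOrth_one (W := W) hB a
  obtain ⟨s, hs, hs0, hQs⟩ := exists_singular (Q := Q) (U := relOrth Q W (Submodule.span F {a}))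
    (by omega)
  exact ⟨s, hs.1, hs0, hQs, (mem_relOrth_one.1 hs).2⟩

end sub

/-- Two vectors of one square class, neither orthogonal nor dependent. -/
def IsMate (Q : QuadraticForm F (ι → F)) (x y : ι → F) : Prop :=
  Q x ≠ 0 ∧ Q y ≠ 0 ∧ IsSquare (Q x * Q y) ∧ QuadraticMap.polar ⇑Q x y ≠ 0 ∧ ∀ c : F, y ≠ c • x

theorem exists_mate (hB : Nondeg Q) {W : Submodule F (ι → F)} (hW : NondegOn Q W)
    (h3 : 3 ≤ Module.finrank F W)
    (h : ((2 : F) ≠ 0 ∧ 4 ≤ Nat.card F) ∨ 4 ≤ Module.finrank F W) :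
    ∃ x ∈ W, ∃ y ∈ W, IsMate Q x y := by
  obtain ⟨x, hx, hQx⟩ := univ_member hW (by omega) 1 one_ne_zero
  have hx0 : x ≠ 0 := fun e => one_ne_zero (α := F) (by rw [← hQx, e, QuadraticMap.map_zero])
  have hxx : B x x = 2 := by rw [b_self, hQx, mul_one]
  by_cases hβ : ∃ β : F, β ≠ 0 ∧ β ≠ 2 ∧ β ≠ -2
  · obtain ⟨β, hβ0, hβ2, hβ2'⟩ := hβ
    obtain ⟨y, hy, hQy, hxy⟩ := exists_meet hB hW h3 hx hx0 1 β (by
      rcases h with h | h
      · exact Or.inl ⟨h.1, by rw [hQx]; exact one_ne_zero⟩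
      · exact Or.inr (Or.inr h))
    refine ⟨x, hx, y, hy, by rw [hQx]; exact one_ne_zero, by rw [hQy]; exact one_ne_zero,
      ⟨1, by rw [hQx, hQy]⟩, by rw [hxy]; exact hβ0, fun c e => ?_⟩
    rw [e, q_smul, hQx, mul_one] at hQy
    rw [e, b_smul_right, hxx] at hxy
    rcases mul_self_eq_one_iff.1 hQy with rfl | rfl
    · exact hβ2 (by rw [← hxy, one_mul])
    · exact hβ2' (by rw [← hxy, neg_one_mul])
  push Not at hβ
  have h2 : (2 : F) ≠ 0 := fun e => by
    rcases eq_or_ne (1 : F) 2 with e1 | e1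
    · exact one_ne_zero (e1.trans e)
    · exact one_ne_zero ((hβ 1 one_ne_zero e1).trans (by rw [e, neg_zero]))
  have h4 : 4 ≤ Module.finrank F W := by
    rcases h with h | h
    · exfalso
      cases nonempty_fintype F
      classical
      have hsub : (Finset.univ : Finset F) ⊆ {0, 2, -2} := fun β _ => by
        by_cases e0 : β = 0
        · simp [e0]
        by_cases e2 : β = 2
        · simp [e2]
        simp [hβ β e0 e2]
      have := (Finset.card_le_card hsub).trans Finset.card_le_three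
      rw [Finset.card_univ, ← Nat.card_eq_fintype_card] at this
      omega
    · exact h
  obtain ⟨s, hs, hs0, hQs, hxs⟩ := exists_singular_perp_in hB h4 x
  refine ⟨x, hx, x + s, W.add_mem hx hs, by rw [hQx]; exact one_ne_zero,
    by rw [q_add, hQx, hQs, hxs]; simp, ⟨1, by rw [q_add, hQx, hQs, hxs]; simp⟩,
    by rw [b_add_right, hxx, hxs, add_zero]; exact h2, fun c e => ?_⟩
  have e' : s = (c - 1) • x := by rw [sub_smul, one_smul, ← e, add_sub_cancel_left]
  rw [e', q_smul, hQx, mul_one, mul_self_eq_zero] at hQs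
  exact hs0 (by rw [e', hQs, zero_smul])

variable {t k : ℕ} {D : Fin t → Submodule F (ι → F)}

namespace Dec

variable (hd : Dec Q k D)
include hd

/-- Moving a vector inside one member, fixing the orthogonal of the member. -/
theorem exists_move {i : Fin t} {a a' : ι → F} (ha : a ∈ D i) (ha' : a' ∈ D i) (ha0 : a ≠ 0)
    (ha0' : a' ≠ 0) (h3 : 3 ≤ k) (hq : Q a = Q a') (h : ((2 : F) ≠ 0 ∧ Q a ≠ 0) ∨ 4 ≤ k) :
    ∃ g : Grp Q, g ∈ Cfsg.Omega F ⇑Q ∧ Perm D g ∧ ap g a = a' ∧
      ∀ x, x ∈ Orth.orth Q (D i) → ap g x = x := by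
  obtain ⟨f, hf, hfa⟩ := exists_partner_val (hd.nondeg i) ha ha0 1
  set X := Submodule.span F {a} ⊔ Orth.orth Q (D i) with hX
  let φ : X →ₗ[F] ι → F :=
    X.subtype + ((QuadraticMap.polarBilin Q f).comp X.subtype).smulRight (a' - a)
  have hspec : ∀ x : X, ∃ (c : F) (z : ι → F), z ∈ Orth.orth Q (D i) ∧ (x : ι → F) = c • a + z ∧
      φ x = c • a' + z := by
    intro x
    obtain ⟨p, hp, z, hz, e⟩ := Submodule.mem_sup.1 x.2
    obtain ⟨c, rfl⟩ := Submodule.mem_span_singleton.1 hp
    refine ⟨c, z, hz, e.symm, ?_⟩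
    show (x : ι → F) + B f (x : ι → F) • (a' - a) = c • a' + z
    rw [← e, b_add_right, b_smul_right, b_comm f a, hfa, show B f z = 0 from hz f hf]
    module
  have hinj : Function.Injective φ := by
    refine (injective_iff_map_eq_zero φ).2 fun x hx => ?_
    obtain ⟨c, z, hz, e, eφ⟩ := hspec x
    rw [hx] at eφ
    have hzi : z ∈ D i := by
      rw [show z = -(c • a') from eq_neg_of_add_eq_zero_right eφ.symm]
      exact neg_mem (Submodule.smul_mem _ _ ha')
    have hz0 : z = 0 := nondeg_inf (hd.nondeg i) hzi hz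
    rw [hz0, add_zero] at eφ
    have hc : c = 0 := (smul_eq_zero.1 eφ.symm).resolve_right ha0'
    exact Subtype.ext (by rw [e, hc, hz0, zero_smul, zero_add]; rfl)
  have hiso : ∀ x : X, Q (φ x) = Q (x : ι → F) := by
    intro x
    obtain ⟨c, z, hz, e, eφ⟩ := hspec x
    rw [eφ, e, q_add, q_add, q_smul, q_smul, hq, b_smul_left, b_smul_left,
      show B a' z = 0 from hz a' ha', show B a z = 0 from hz a ha]
  have hu : Univ Q (Orth.orth Q X) := by
    intro e he
    obtain ⟨n, hn, hQn⟩ := univ_perp hd.nd (hd.nondeg i) (by rw [hd.rank]; exact h3) ha ha0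
      (by rw [hd.rank]; exact h) e he
    refine ⟨n, fun x hx => ?_, hQn⟩
    obtain ⟨p, hp, z, hz, rfl⟩ := Submodule.mem_sup.1 hx
    obtain ⟨c, rfl⟩ := Submodule.mem_span_singleton.1 hp
    show B (c • a + z) n = 0
    rw [b_add_left, b_smul_left, (mem_relOrth_one.1 hn).2, b_comm z n,
      show B n z = 0 from hz n hn.1]
    ring
  obtain ⟨g, hg, hgX⟩ := exists_omega_map hd.nd hd.dim φ hinj hiso hu
  have hfix : ∀ x, x ∈ Orth.orth Q (D i) → ap g x = x := by
    intro x hx
    refine (hgX ⟨x, Submodule.mem_sup_right hx⟩).trans ?_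
    show x + B f x • (a' - a) = x
    rw [show B f x = 0 from hx f hf, zero_smul, add_zero]
  refine ⟨g, hg, fun l => ⟨l, fun x hx => ?_⟩, ?_, hfix⟩
  · by_cases hl : l = i
    · subst hl
      rw [← orth_orth hd.nd (D l)]
      intro y hy
      show B y (ap g x) = 0
      rw [← hfix y hy, ap_b, b_comm]
      exact hy x hx
    · rwa [hfix x (hd.mem_orth_of_ne hl hx)]
  · refine (hgX ⟨a, Submodule.mem_sup_left (Submodule.mem_span_singleton_self a)⟩).trans ?_
    show a + B f a • (a' - a) = a'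
    rw [b_comm f a, hfa, one_smul, add_sub_cancel]

/-- Carrying one member onto another, fixing the remaining ones. -/
theorem exists_swap {l m : Fin t} (hlm : l ≠ m) :
    ∃ g : Grp Q, g ∈ Cfsg.Omega F ⇑Q ∧ Perm D g ∧ (∀ x ∈ D l, ap g x ∈ D m) ∧
      ∀ j, j ≠ l → j ≠ m → ∀ x ∈ D j, ap g x = x := by
  obtain ⟨e, he⟩ := hd.iso l m
  let π : (ι → F) →ₗ[F] D l := (proj Q (D l)).codRestrict (D l) (hd.comp_mem l)
  let ψ : (ι → F) →ₗ[F] ι → F := (D m).subtype.comp (e.toLinearMap.comp π)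
  set X := Orth.orth Q (D m) with hX
  let φ : X →ₗ[F] ι → F := (LinearMap.id - proj Q (D l) + ψ).comp X.subtype
  have hψ : ∀ x, ψ x ∈ D m ∧ Q (ψ x) = Q (proj Q (D l) x) := fun x => ⟨(e (π x)).2, he (π x)⟩
  have hrest : ∀ x : X, (x : ι → F) - proj Q (D l) x ∈ Orth.orth Q (D l) ∧
      (x : ι → F) - proj Q (D l) x ∈ Orth.orth Q (D m) := by
    intro x
    constructor <;> intro w hw <;> show B w _ = 0
    · rw [b_sub_right, b_comm w (proj Q (D l) x), hd.b_comp l x hw, b_comm w, sub_self]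
    · rw [b_sub_right, show B w (x : ι → F) = 0 from x.2 w hw, b_comm,
        hd.orth l m hlm _ (hd.comp_mem l x) w hw, sub_zero]
  have hiso : ∀ x : X, Q (φ x) = Q (x : ι → F) := by
    intro x
    show Q ((x : ι → F) - proj Q (D l) x + ψ x) = _
    rw [q_add, (hψ x).2, b_comm, show B (ψ (x : ι → F)) _ = 0 from (hrest x).2 _ (hψ x).1, add_zero]
    conv_rhs => rw [← sub_add_cancel (x : ι → F) (proj Q (D l) x)]
    rw [q_add, b_comm ((x : ι → F) - _), show B (proj Q (D l) (x : ι → F)) _ = 0 from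
      (hrest x).1 _ (hd.comp_mem l x), add_zero]
  have hinj : Function.Injective φ := by
    refine (injective_iff_map_eq_zero φ).2 fun x hx => ?_
    change (x : ι → F) - proj Q (D l) x + ψ x = 0 at hx
    have h1 : (x : ι → F) - proj Q (D l) x ∈ D m := by
      rw [eq_neg_of_add_eq_zero_left hx]; exact neg_mem (hψ x).1
    have h2 := nondeg_inf (hd.nondeg m) h1 (hrest x).2
    rw [h2, zero_add] at hx
    have h3 : e (π x) = 0 := Subtype.ext hx
    rw [LinearEquiv.map_eq_zero_iff] at h3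
    have h4 : proj Q (D l) (x : ι → F) = 0 := congrArg Subtype.val h3
    rw [h4, sub_zero] at h2
    exact Subtype.ext h2
  have hu : Univ Q (Orth.orth Q X) := by
    rw [hX, orth_orth hd.nd]
    exact univ_member (hd.nondeg m) (by have := hd.two_le_rank; rw [hd.rank]; omega)
  obtain ⟨g, hg, hgX⟩ := exists_omega_map hd.nd hd.dim φ hinj hiso hu
  have hl : ∀ x ∈ D l, ap g x ∈ D m := by
    intro x hx
    rw [hgX ⟨x, hd.mem_orth_of_ne hlm hx⟩]
    show x - proj Q (D l) x + ψ x ∈ D m
    rw [hd.comp_self hx, sub_self, zero_add]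
    exact (hψ x).1
  have hj : ∀ j, j ≠ l → j ≠ m → ∀ x ∈ D j, ap g x = x := by
    intro j hjl hjm x hx
    rw [hgX ⟨x, hd.mem_orth_of_ne hjm hx⟩]
    show x - proj Q (D l) x + ψ x = x
    have e0 : π x = 0 := Subtype.ext (hd.comp_other hjl hx)
    rw [show ψ x = ((e (π x) : D m) : ι → F) from rfl, e0, map_zero, hd.comp_other hjl hx, sub_zero,
      Submodule.coe_zero, add_zero]
  have himg : ∀ y ∈ D m, ∃ x ∈ D l, ap g x = y := by
    intro y hy
    have h1 : (D l).map (Matrix.toLin' ((g : GL ι F) : Matrix ι ι F)) = D m := by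
      refine Submodule.eq_of_le_of_finrank_eq ?_ ?_
      · rintro _ ⟨x, hx, rfl⟩; exact hl x hx
      · rw [hd.rank m, ← hd.rank l]
        exact ((D l).equivMapOfInjective _ fun x y e => ap_inj g e).finrank_eq.symm
    rw [← h1] at hy
    obtain ⟨x, hx, e⟩ := hy
    exact ⟨x, hx, e⟩
  refine ⟨g, hg, fun i => ?_, hl, hj⟩
  by_cases hil : i = l
  · exact ⟨m, hil ▸ hl⟩
  by_cases him : i = m
  · subst him
    refine ⟨l, fun x hx => hd.eq_comp_of_others fun j hjl => ?_⟩
    refine (hd.nondeg j) _ (hd.comp_mem j _) fun y hy => ?_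
    rw [hd.b_comp j _ hy]
    by_cases hji : j = i
    · subst hji
      obtain ⟨z, hz, rfl⟩ := himg y hy
      rw [ap_b]
      exact hd.orth j l (Ne.symm hlm) x hx z hz
    · rw [← hj j hjl hji y hy, ap_b]
      exact hd.orth i j (Ne.symm hji) x hx y hy
  · exact ⟨i, fun x hx => by rwa [hj i hil him x hx]⟩

end Dec

end CfsgLib.Orth.DecompMax
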