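import Cfsg.Agent.Lib.Classical.OrthFix
import Cfsg.Agent.Lib.Classical.OrthSimple

set_option autoImplicit false
set_option linter.unusedSectionVars false

/-!
Orthogonal decompositions: components, the stabiliser of the decomposition, and pairs of reflections
in an overgroup of the stabiliser.
-/

namespace CfsgLib.Orth.DecompMax

open Matrix

variable {F : Type*} [Field F] [Finite F] {ι : Type} [Fintype ι] [DecidableEq ι]
/-- An orthogonal decomposition into isometric non-degenerate members of dimension at least two. -/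
structure Dec (Q : QuadraticForm F (ι → F)) {t : ℕ} (k : ℕ) (D : Fin t → Submodule F (ι → F)) :
    Prop where
  nd : Nondeg Q
  dim : 5 ≤ Module.finrank F (ι → F)
  two_le : 2 ≤ t
  two_le_rank : 2 ≤ k
  nondeg : ∀ i, NondegOn Q (D i)
  orth : ∀ i j, i ≠ j → ∀ x ∈ D i, ∀ y ∈ D j, QuadraticMap.polar ⇑Q x y = 0
  top : iSup D = ⊤
  rank : ∀ i, Module.finrank F (D i) = k
  /-- in dimension four over two elements the members have Witt index one -/
  fine : k = 4 → 3 ≤ Nat.card F ∨ ∀ i, ∀ a ∈ D i, ∀ b ∈ D i,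
    a ≠ 0 → b ≠ 0 → a ≠ b → Q a = 0 → Q b = 0 → QuadraticMap.polar ⇑Q a b ≠ 0
  iso : ∀ i j, ∃ e : D i ≃ₗ[F] D j, ∀ x : D i, Q ((e x : D j) : ι → F) = Q (x : ι → F)

variable {Q : QuadraticForm F (ι → F)}

local notation "B" => QuadraticMap.polar (DFunLike.coe Q)

variable {t k : ℕ} {D : Fin t → Submodule F (ι → F)}

/-- The orthogonal projection on a non-degenerate subspace, zero otherwise. -/
noncomputable def proj (Q : QuadraticForm F (ι → F)) (W : Submodule F (ι → F)) :
    (ι → F) →ₗ[F] ι → F :=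
  haveI := Classical.propDecidable (IsCompl W (Orth.orth Q W))
  if h : IsCompl W (Orth.orth Q W) then LinearMap.ofIsCompl h W.subtype 0 else 0

theorem isCompl_orth (hB : Nondeg Q) {W : Submodule F (ι → F)} (hW : NondegOn Q W) :
    IsCompl W (Orth.orth Q W) :=
  ⟨disjoint_iff.2 ((Submodule.eq_bot_iff _).2 fun _ hx => nondeg_inf hW hx.1 hx.2),
    codisjoint_iff.2 (sup_orth_eq_top hB hW)⟩

theorem proj_mem (hB : Nondeg Q) {W : Submodule F (ι → F)} (hW : NondegOn Q W) (x : ι → F) :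
    proj Q W x ∈ W := by
  obtain ⟨w, hw, z, hz, rfl⟩ := exists_decomp hB hW x
  rw [proj, dif_pos (isCompl_orth hB hW), map_add]
  have h1 := LinearMap.ofIsCompl_left_apply (isCompl_orth hB hW) (φ := W.subtype)
    (ψ := (0 : Orth.orth Q W →ₗ[F] ι → F)) ⟨w, hw⟩
  have h2 := LinearMap.ofIsCompl_right_apply (isCompl_orth hB hW) (φ := W.subtype)
    (ψ := (0 : Orth.orth Q W →ₗ[F] ι → F)) ⟨z, hz⟩
  simp only [Submodule.coe_subtype, LinearMap.zero_apply] at h1 h2
  rw [h1, h2, add_zero]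
  exact hw

theorem proj_self (hB : Nondeg Q) {W : Submodule F (ι → F)} (hW : NondegOn Q W) {x : ι → F}
    (hx : x ∈ W) : proj Q W x = x := by
  rw [proj, dif_pos (isCompl_orth hB hW)]
  exact LinearMap.ofIsCompl_left_apply (isCompl_orth hB hW) ⟨x, hx⟩

theorem proj_orth (hB : Nondeg Q) {W : Submodule F (ι → F)} (hW : NondegOn Q W) {x : ι → F}
    (hx : x ∈ Orth.orth Q W) : proj Q W x = 0 := by
  rw [proj, dif_pos (isCompl_orth hB hW)]
  exact LinearMap.ofIsCompl_right_apply (isCompl_orth hB hW) ⟨x, hx⟩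

theorem b_proj (hB : Nondeg Q) {W : Submodule F (ι → F)} (hW : NondegOn Q W) (x : ι → F)
    {w : ι → F} (hw : w ∈ W) : B (proj Q W x) w = B x w := by
  obtain ⟨a, ha, z, hz, rfl⟩ := exists_decomp hB hW x
  rw [map_add, proj_self hB hW ha, proj_orth hB hW hz, add_zero, b_add_left, b_comm z w,
    show B w z = 0 from hz w hw, add_zero]

/-- Lying in one member. -/
def Blk (D : Fin t → Submodule F (ι → F)) (x : ι → F) : Prop := ∃ i, x ∈ D i

namespace Dec

variable (hd : Dec Q k D)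
include hd

theorem mem_orth_of_ne {i j : Fin t} (h : i ≠ j) {x : ι → F} (hx : x ∈ D i) :
    x ∈ Orth.orth Q (D j) := fun w hw => by
  show B w x = 0
  rw [b_comm]; exact hd.orth i j h x hx w hw

/-- The component in one member. -/
theorem eq_zero_of_b {x : ι → F} (h : ∀ i, ∀ y ∈ D i, B x y = 0) : x = 0 := by
  refine hd.nd x fun y => ?_
  have hy : y ∈ iSup D := by rw [hd.top]; trivial
  induction hy using Submodule.iSup_induction' with
  | mem i z hz => exact h i z hz
  | zero => exact b_zero_right x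
  | add p q _ _ hp hq => rw [b_add_right, hp, hq, add_zero]

theorem comp_mem (i : Fin t) (x : ι → F) : proj Q (D i) x ∈ D i := proj_mem hd.nd (hd.nondeg i) x

theorem comp_self {i : Fin t} {x : ι → F} (hx : x ∈ D i) : proj Q (D i) x = x :=
  proj_self hd.nd (hd.nondeg i) hx

theorem comp_other {i j : Fin t} (h : i ≠ j) {x : ι → F} (hx : x ∈ D i) : proj Q (D j) x = 0 :=
  proj_orth hd.nd (hd.nondeg j) (hd.mem_orth_of_ne h hx)

theorem b_comp (i : Fin t) (x : ι → F) {y : ι → F} (hy : y ∈ D i) :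
    B (proj Q (D i) x) y = B x y := b_proj hd.nd (hd.nondeg i) x hy

theorem sum_comp (x : ι → F) : ∑ i, proj Q (D i) x = x := by
  rw [← sub_eq_zero]
  refine hd.eq_zero_of_b fun j y hy => ?_
  rw [b_sub_left, ← QuadraticMap.polarBilin_apply_apply, map_sum, LinearMap.sum_apply]
  simp only [QuadraticMap.polarBilin_apply_apply]
  rw [Finset.sum_eq_single j (fun i _ hij => hd.orth i j hij _ (hd.comp_mem i x) y hy)
      (fun h => absurd (Finset.mem_univ j) h)]
  rw [hd.b_comp j x hy, sub_self]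

theorem ext_comp {x y : ι → F} (h : ∀ i, proj Q (D i) x = proj Q (D i) y) : x = y := by
  rw [← hd.sum_comp x, ← hd.sum_comp y]
  exact Finset.sum_congr rfl fun i _ => h i

theorem eq_comp_of_others {x : ι → F} {i : Fin t} (h : ∀ j, j ≠ i → proj Q (D j) x = 0) :
    x ∈ D i := by
  rw [← hd.sum_comp x, Finset.sum_eq_single i (fun j _ hj => h j hj)
    (fun h => absurd (Finset.mem_univ i) h)]
  exact hd.comp_mem i x

theorem blk_iff {x : ι → F} :
    Blk D x ↔ ∀ a b, a ≠ b → proj Q (D a) x = 0 ∨ proj Q (D b) x = 0 := by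
  constructor
  · rintro ⟨i, hi⟩ a b hab
    by_cases h : i = a
    · exact Or.inr (hd.comp_other (h ▸ hab) hi)
    · exact Or.inl (hd.comp_other h hi)
  · intro h
    by_cases h0 : ∃ a, proj Q (D a) x ≠ 0
    · obtain ⟨a, ha⟩ := h0
      exact ⟨a, hd.eq_comp_of_others fun j hj => (h a j (Ne.symm hj)).resolve_left ha⟩
    · push Not at h0
      have ht := hd.two_le
      exact ⟨⟨0, by omega⟩, hd.eq_comp_of_others fun j _ => h0 j⟩

theorem member_ne_bot (i : Fin t) : D i ≠ ⊥ := fun e => by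
  have := hd.rank i
  rw [e, finrank_bot] at this
  have := hd.two_le_rank
  omega

theorem eq_of_mem {i j : Fin t} {x : ι → F} (hx : x ≠ 0) (hi : x ∈ D i) (hj : x ∈ D j) : i = j := by
  by_contra h
  exact hx (by rw [← hd.comp_self hi, hd.comp_other (Ne.symm h) hj])

end Dec

/-- Permuting the members. -/
def Perm (D : Fin t → Submodule F (ι → F)) (g : Grp Q) : Prop :=
  ∀ i, ∃ j, ∀ x ∈ D i, ap g x ∈ D j

namespace Dec

variable (hd : Dec Q k D)
include hd

theorem perm_iff {g : Grp Q} :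
    Perm D g ↔ (g : GL ι F) ∈ Cfsg.Geo.decompositionStabilizer D := by
  constructor
  · intro h
    choose f hf using h
    have heq : ∀ i, (D i).map (Matrix.toLin' ((g : GL ι F) : Matrix ι ι F)) = D (f i) := by
      intro i
      refine Submodule.eq_of_le_of_finrank_eq ?_ ?_
      · rintro _ ⟨x, hx, rfl⟩
        exact hf i x hx
      · rw [hd.rank (f i), ← hd.rank i]
        exact ((D i).equivMapOfInjective _ fun x y e => ap_inj g e).finrank_eq.symm
    have hinj : Function.Injective f := by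
      intro i j e
      obtain ⟨x, hx, hx0⟩ := (D i).exists_mem_ne_zero_of_ne_bot (hd.member_ne_bot i)
      have h1 : ap g x ∈ (D j).map (Matrix.toLin' ((g : GL ι F) : Matrix ι ι F)) := by
        rw [heq j, ← e]; exact hf i x hx
      obtain ⟨y, hy, hyx⟩ := h1
      exact hd.eq_of_mem hx0 hx (ap_inj g hyx ▸ hy)
    exact ⟨Equiv.ofBijective f (Finite.injective_iff_bijective.1 hinj), heq⟩
  · rintro ⟨σ, hσ⟩ i
    exact ⟨σ i, fun x hx => hσ i ▸ ⟨x, hx, rfl⟩⟩

theorem perm_blk {g : Grp Q} (h : Perm D g) {x : ι → F} (hx : Blk D x) : Blk D (ap g x) := by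
  obtain ⟨i, hi⟩ := hx
  obtain ⟨j, hj⟩ := h i
  exact ⟨j, hj x hi⟩

theorem perm_refl_pair {i j : Fin t} {x y : ι → F} {r s : Grp Q} (hx : x ∈ D i) (hy : y ∈ D j)
    (hr : IsRefl x r) (hs : IsRefl y s) : Perm D (r * s) := by
  have key : ∀ (a : Fin t) (z : ι → F) (w : Grp Q), z ∈ D a → IsRefl z w →
      ∀ l, ∀ v ∈ D l, ap w v ∈ D l := by
    intro a z w hz hw l v hv
    rw [hw.2]
    by_cases h : a = l
    · exact (D l).sub_mem hv ((D l).smul_mem _ (h ▸ hz))
    · rwa [hd.orth a l h z hz v hv, mul_zero, zero_smul, sub_zero]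
  intro l
  exact ⟨l, fun v hv => by rw [ap_mul]; exact key i x r hx hr l _ (key j y s hy hs l v hv)⟩

end Dec

/-! ### Square classes -/

theorem sq_trans {a b c : F} (ha : a ≠ 0) (hab : IsSquare (a * b)) (hac : IsSquare (a * c)) :
    IsSquare (b * c) := by
  obtain ⟨u, hu⟩ := hab
  obtain ⟨v, hv⟩ := hac
  refine ⟨u * v / a, ?_⟩
  field_simp
  linear_combination (a * c) * hu + (u * u) * hv

/-- The vectors whose norm has the class of `d`. -/
def Cls (Q : QuadraticForm F (ι → F)) (d : F) (x : ι → F) : Prop :=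
  Q x ≠ 0 ∧ IsSquare (d * Q x)

theorem cls_ap {d : F} {x : ι → F} (h : Cls Q d x) (g : Grp Q) : Cls Q d (ap g x) := by
  unfold Cls; rwa [ap_q]

theorem cls_smul {d : F} {x : ι → F} (h : Cls Q d x) {c : F} (hc : c ≠ 0) : Cls Q d (c • x) := by
  obtain ⟨u, hu⟩ := h.2
  refine ⟨by rw [q_smul]; exact mul_ne_zero (mul_ne_zero hc hc) h.1, c * u, ?_⟩
  rw [q_smul]; linear_combination (c * c) * hu

theorem cls_self {x : ι → F} (h : Q x ≠ 0) : Cls Q (Q x) x := ⟨h, Q x, rfl⟩

theorem cls_pair {d : F} (hd : d ≠ 0) {x y : ι → F} (hx : Cls Q d x) (hy : Cls Q d y) :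
    IsSquare (Q x * Q y) := sq_trans hd hx.2 hy.2

/-! ### Pairs of reflections -/

/-- The product of the two reflections lies in `M`. -/
def Rel (M : Subgroup (Grp Q)) (x y : ι → F) : Prop :=
  Q x ≠ 0 ∧ Q y ≠ 0 ∧ ∀ r s, IsRefl x r → IsRefl y s → r * s ∈ M

variable {M : Subgroup (Grp Q)}

theorem refl_inv' {x : ι → F} {r : Grp Q} (hr : IsRefl x r) : r⁻¹ = r := refl_inv hr

theorem rel_symm {x y : ι → F} (h : Rel M x y) : Rel M y x :=
  ⟨h.2.1, h.1, fun r s hr hs => by
    have := M.inv_mem (h.2.2 s r hs hr)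
    rwa [_root_.mul_inv_rev, refl_inv' hr, refl_inv' hs] at this⟩

theorem rel_trans (hB : Nondeg Q) {x y z : ι → F} (h : Rel M x y) (h' : Rel M y z) : Rel M x z :=
  ⟨h.1, h'.2.1, fun r u hr hu => by
    obtain ⟨s, hs⟩ := exists_refl hB h.2.1
    have := M.mul_mem (h.2.2 r s hr hs) (h'.2.2 s u hs hu)
    rwa [mul_assoc, ← mul_assoc s s u, refl_mul_self hs, one_mul] at this⟩

theorem rel_conj {g : Grp Q} (hg : g ∈ M) {x y : ι → F} (h : Rel M x y) :
    Rel M (ap g x) (ap g y) := by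
  refine ⟨by rw [ap_q]; exact h.1, by rw [ap_q]; exact h.2.1, fun r s hr hs => ?_⟩
  have hr' := refl_conj hr g⁻¹
  have hs' := refl_conj hs g⁻¹
  rw [ap_inv_ap] at hr' hs'
  have := M.mul_mem (M.mul_mem hg (h.2.2 _ _ hr' hs')) (M.inv_mem hg)
  rwa [show g * ((g⁻¹ * r * (g⁻¹)⁻¹) * (g⁻¹ * s * (g⁻¹)⁻¹)) * g⁻¹ = r * s by group] at this

theorem refl_image {x y : ι → F} {r s : Grp Q} (hr : IsRefl x r) (hs : IsRefl y s) :
    IsRefl (ap r y) (r * s * r) := by
  have := refl_conj hs r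
  rwa [refl_inv' hr] at this

/-- Related vectors reflect into related vectors. -/
theorem rel_refl (hB : Nondeg Q) {x y : ι → F} (h : Rel M x y) {r : Grp Q} (hr : IsRefl x r) :
    Rel M x (ap r y) := by
  refine ⟨h.1, by rw [ap_q]; exact h.2.1, fun r' u hr' hu => ?_⟩
  obtain ⟨s, hs⟩ := exists_refl hB h.2.1
  obtain rfl := refl_unique hr hr'
  rw [refl_unique hu (refl_image hr hs), ← mul_assoc, ← mul_assoc, refl_mul_self hr, one_mul]
  exact (rel_symm h).2.2 s r hs hr

/-- Being related to a vector of the class of `d` in one member. -/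
def Mix (M : Subgroup (Grp Q)) (D : Fin t → Submodule F (ι → F)) (d : F) (x : ι → F) : Prop :=
  Cls Q d x ∧ ∃ b, Blk D b ∧ Cls Q d b ∧ Rel M x b

end CfsgLib.Orth.DecompMax
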