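import Cfsg.Agent.Lib.Classical.OrthDecompMax.Spread
import Cfsg.Agent.Lib.Classical.OrthNondeg

set_option autoImplicit false
set_option linter.unusedSectionVars false

/-!
Decompositions into two members of dimension at least five.
-/

namespace CfsgLib.Orth.DecompMax

open Matrix

variable {F : Type*} [Field F] [Finite F] {ι : Type} [Fintype ι] [DecidableEq ι]
variable {Q : QuadraticForm F (ι → F)} {k : ℕ} {D : Fin 2 → Submodule F (ι → F)}

local notation "B" => QuadraticMap.polar (DFunLike.coe Q)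

namespace Dec

theorem isMaximalIn_two (hd : Dec Q k D) (hk : 5 ≤ k) (hL : Large F k) :
    Cfsg.Geo.IsMaximalIn (Cfsg.Geo.omegaGL ⇑Q)
      (Cfsg.Geo.decompositionStabilizer D ⊓ Cfsg.Geo.omegaGL ⇑Q) := by
  have hrk : Module.finrank F (ι → F) = k + k := by
    have hs : D 0 ⊔ D 1 = ⊤ := by
      rw [← hd.top]
      refine le_antisymm (sup_le (le_iSup D 0) (le_iSup D 1)) (iSup_le fun i => ?_)
      fin_cases i
      · exact le_sup_left
      · exact le_sup_right
    have hi : D 0 ⊓ D 1 = ⊥ := (Submodule.eq_bot_iff _).2 fun x hx => by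
      by_contra h
      exact absurd (hd.eq_of_mem h hx.1 hx.2) (by decide)
    have h := Submodule.finrank_sup_add_finrank_inf_eq (D 0) (D 1)
    rw [hs, hi, finrank_top, finrank_bot, hd.rank, hd.rank, add_zero] at h
    exact h
  have horth : D 1 = Orth.orth Q (D 0) := by
    refine Submodule.eq_of_le_of_finrank_le (fun x hx => hd.mem_orth_of_ne (by decide) hx) ?_
    have := finrank_orth hd.nd (D 0)
    rw [hd.rank] at this ⊢
    omega
  have hperm : ∀ g : Grp Q, Perm D g ↔ img g (D 0) = D 0 ∨ img g (D 0) = D 1 := by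
    intro g
    constructor
    · intro h
      obtain ⟨j, hj⟩ := h 0
      have e : img g (D 0) = D j := Submodule.eq_of_le_of_finrank_le
        (fun x hx => by
          have := hj _ (mem_img.1 hx)
          rwa [← ap_mul, mul_inv_cancel, ap_one] at this)
        (by rw [finrank_img, hd.rank, hd.rank])
      fin_cases j
      · exact Or.inl e
      · exact Or.inr e
    · rintro (h | h) i <;> fin_cases i
      · exact ⟨0, fun x hx => h ▸ ap_mem_img g hx⟩
      · refine ⟨1, fun x hx => ?_⟩
        have hg : g ∈ stab Q (D 0) := mem_img_of_stab h.le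
        rw [← stab_orth_eq hd.nd, ← horth] at hg
        exact (mem_stab.1 hg x).1 hx
      · exact ⟨1, fun x hx => h ▸ ap_mem_img g hx⟩
      · refine ⟨0, fun x hx => ?_⟩
        show ap g x ∈ D 0
        rw [← orth_orth hd.nd (D 0), ← horth]
        intro y hy
        show B y (ap g x) = 0
        rw [← h] at hy
        obtain ⟨z, hz⟩ : ∃ z, z = ap g⁻¹ y := ⟨_, rfl⟩
        have hzy : ap g z = y := by rw [hz, ← ap_mul, mul_inv_cancel, ap_one]
        rw [← hzy, ap_b]
        exact hd.orth 0 1 (by decide) z (hz ▸ mem_img.1 hy) x hx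
  have hbad : ¬ (Nat.card F ≤ 3 ∧ Module.finrank F (Orth.orth Q (D 0)) = 2 ∧
      ∃ s ∈ Orth.orth Q (D 0), s ≠ 0 ∧ Q s = 0) := fun h => by
    have := h.2.1
    rw [← horth, hd.rank] at this
    omega
  refine isMaximalIn_omegaGL
    (H := (Cfsg.Geo.decompositionStabilizer D).comap (Cfsg.isometryGroup F ⇑Q).subtype)
    (fun _ => Iff.rfl) ⟨lt_of_le_not_ge inf_le_right fun hge => ?_, fun M h1 h2 => ?_⟩
  · obtain ⟨g, hg, hgP⟩ := hd.exists_not_perm hL
    exact hgP (hd.perm_iff.2 (hge hg).1)
  by_cases hall : ∀ g ∈ M, Perm D g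
  · exact Or.inl (le_antisymm (fun g hg => ⟨hd.perm_iff.1 (hall g hg), h2 hg⟩) h1)
  push Not at hall
  obtain ⟨g, hg, hgP⟩ := hall
  rw [hperm] at hgP
  push Not at hgP
  refine Or.inr (le_antisymm h2 ?_)
  rw [omega_eq_El hd.nd hd.dim]
  refine El_le_of_moved hd.nd (hd.nondeg 0) (by rw [hd.rank]; exact hk)
    (by rw [← horth, hd.rank, hd.rank]) hbad (fun x hx => h1 ⟨?_, ?_⟩) hg
    (fun hs => hgP.1 ?_) (horth ▸ hgP.2)
  · refine hd.perm_iff.1 ((hperm x).2 (Or.inl ?_))
    refine Submodule.eq_of_le_of_finrank_le (fun y hy => ?_) (by rw [finrank_img])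
    have := (mem_stab.1 hx.1 _).1 (mem_img.1 hy)
    rwa [← ap_mul, mul_inv_cancel, ap_one] at this
  · rw [omega_eq_El hd.nd hd.dim]; exact hx.2
  · refine Submodule.eq_of_le_of_finrank_le (fun y hy => ?_) (by rw [finrank_img])
    have := (mem_stab.1 hs _).1 (mem_img.1 hy)
    rwa [← ap_mul, mul_inv_cancel, ap_one] at this

end Dec

end CfsgLib.Orth.DecompMax
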